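/-
The action of the centraliser of the generator `d` of the Held group on the certified 2058 points.
-/
import Cfsg.Agent.S1695
import Cfsg.Agent.Lib.CosetEnum.PointClass
import Cfsg.Agent.Lib.HeCent.Data

set_option autoImplicit false
set_option maxRecDepth 100000

namespace CfsgLib.HeCent

open CfsgLib.CosetEnum

theorem hid : ∀ i < presHe.k, presHe.idx (presHe.gen i) = i := by decide

instance grp_finite : Finite presHe.Grp := Cfsg.Agent.S1695.upper.1

theorem card_grp : Nat.card presHe.Grp = 4030387200 := (Cfsg.Agent.S1695.result).2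

/-- The representation on the cosets. -/
noncomputable abbrev π : presHe.Grp →* Equiv.Perm (Fin He2058.cert.T.n) := He2058.cert.hom He2058.hlt

/-- The table of the representation. -/
noncomputable abbrev run1 (w : List ℕ) (d : ℕ) : ℕ := runT He2058.table 7 w d

/-- The element of a word acting as the word read from the left. -/
noncomputable def el (w : List ℕ) : presHe.Grp := (w.reverse.map presHe.σ).prod

/-- The image of a point. -/
noncomputable def pt (g : presHe.Grp) (b : ℕ) : ℕ :=
  if h : b < He2058.cert.T.n then (π g ⟨b, h⟩ : ℕ) else b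

theorem pt_val (g : presHe.Grp) (b : Fin He2058.cert.T.n) : pt g b = (π g b : ℕ) := by
  rw [pt, dif_pos b.2]

theorem pt_one (b : ℕ) : pt 1 b = b := by
  unfold pt
  split
  · rw [map_one, Equiv.Perm.one_apply]
  · rfl

theorem pt_lt (g : presHe.Grp) {b : ℕ} (hb : b < He2058.cert.T.n) : pt g b < He2058.cert.T.n := by
  rw [pt, dif_pos hb]; exact Fin.is_lt _

theorem pt_mul (g h : presHe.Grp) {b : ℕ} (hb : b < He2058.cert.T.n) : pt (g * h) b = pt g (pt h b) := by
  have e1 := pt_val (g * h) ⟨b, hb⟩
  have e2 := pt_val h ⟨b, hb⟩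
  have e3 := pt_val g (π h ⟨b, hb⟩)
  simp only at e1 e2
  rw [e1, e2, e3, map_mul]
  rfl

/-- A word in the generators. -/
def okWord (w : List ℕ) : Bool := w.all fun x => Nat.blt x 7

theorem okWord_iff {w : List ℕ} (h : okWord w = true) : ∀ x ∈ w, x < presHe.k := fun x hx =>
  blt_iff.mp (List.all_eq_true.mp h x hx)

theorem pt_el {w : List ℕ} (hw : okWord w = true) {b : ℕ} (hb : b < He2058.cert.T.n) :
    pt (el w) b = run1 w b := by
  rw [pt, dif_pos hb]
  exact He2058.cert.hom_rev He2058.hlt hid w (okWord_iff hw) ⟨b, hb⟩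

theorem el_inv (w : List ℕ) : el w.reverse = (el w)⁻¹ := by
  rw [el, el, prod_reverse_inv presHe.σ presHe.σ_sq w.reverse]

/-- Points determining the elements of the group. -/
def six : List ℕ := [0, 2, 1, 5, 18, 9]

theorem six_lt : ∀ b ∈ six, b < He2058.cert.T.n := by
  intro b hb
  show b < 2058
  revert b
  decide

theorem eq_one_of_six {g : presHe.Grp} (hg : ∀ b ∈ six, pt g b = b) : g = 1 := by
  have h1 := Cfsg.Agent.S1695.lower (le_refl (Nat.card (He2058.cert.fixSub He2058.hlt six)))
  have h2 := He2058.cert.card_le_of_fixSub He2058.hlt h1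
  rw [card_grp] at h2
  have h3 : Nat.card (He2058.cert.fixSub He2058.hlt six) ≤ 1 := by
    exact Nat.le_of_mul_le_mul_left (h2.trans (mul_one 4030387200).ge) (by norm_num)
  refine (Subgroup.eq_bot_iff_forall _).mp (Subgroup.card_le_one_iff_eq_bot _ |>.mp h3) g fun d hd => ?_
  exact Fin.ext ((pt_val g d).symm.trans (hg _ hd))

theorem eq_of_six {g h : presHe.Grp} (hgh : ∀ b ∈ six, pt g b = pt h b) : g = h := by
  refine inv_mul_eq_one.mp (eq_one_of_six (g := h⁻¹ * g) fun b hb => ?_) |>.symm
  rw [pt_mul _ _ (six_lt b hb), hgh b hb, ← pt_mul _ _ (six_lt b hb), inv_mul_cancel, pt_one]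

/-- The involution `d`. -/
noncomputable def dd : presHe.Grp := el [3]

theorem dd_sq : dd * dd = 1 := by
  show ([presHe.σ 3].prod) * ([presHe.σ 3].prod) = 1
  rw [List.prod_singleton, presHe.σ_sq]

theorem dd_pt {b : ℕ} (hb : b < He2058.cert.T.n) : pt dd b = run1 [3] b := pt_el rfl hb

/-- The check that a word commutes with `d`. -/
noncomputable def okComm (w : List ℕ) : Bool :=
  okWord w && six.all fun b => Nat.beq (run1 [3] (run1 w b)) (run1 w (run1 [3] b))

theorem comm_of_ok {w : List ℕ} (h : okComm w = true) : el w * dd = dd * el w := by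
  simp only [okComm, Bool.and_eq_true, List.all_eq_true] at h
  refine eq_of_six fun b hb => ?_
  have hb' := six_lt b hb
  have h1 := pt_lt dd hb'
  have h2 := pt_lt (el w) hb'
  rw [dd_pt hb'] at h1
  rw [pt_el h.1 hb'] at h2
  rw [pt_mul _ _ hb', pt_mul _ _ hb', dd_pt hb', pt_el h.1 h1, pt_el h.1 hb', dd_pt h2]
  exact (Nat.eq_of_beq_eq_true (h.2 b hb)).symm

/-- The centraliser of `d`. -/
noncomputable def Cd : Subgroup presHe.Grp := Subgroup.centralizer {dd}

theorem mem_Cd {g : presHe.Grp} : g ∈ Cd ↔ g * dd = dd * g := Subgroup.mem_centralizer_singleton_iff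

/-- The label of a point. -/
noncomputable abbrev lab (d : ℕ) : ℕ := orbLab He2058.orb d

/-- The invariant of a point `q` compared with that of `b`, from the first `k` points. -/
noncomputable def sigEq (k q b : ℕ) : Bool :=
  (Nat.beq (run1 [3] q) q == Nat.beq (run1 [3] b) b) &&
    (toZero.take k).all fun u => Nat.beq (lab (run1 u q)) (lab (run1 u b)) &&
      Nat.beq (lab (run1 u (run1 [3] q))) (lab (run1 u (run1 [3] b)))

/-- The possible images. -/
noncomputable def candList (k b : ℕ) : List ℕ := (List.range 2058).filter fun q => sigEq k q b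

theorem toZero_ok : ((List.range 7).all fun i => okWord (toZero.getD i []) && Nat.blt (basePts.getD i 0) 2058 &&
    Nat.beq (run1 (toZero.getD i []) (basePts.getD i 0)) 0) = true := by decide +kernel

theorem lengths : toZero.length = 7 ∧ basePts.length = 7 := ⟨rfl, rfl⟩

theorem lab_fix {i : ℕ} (hi : i < 7) {g : presHe.Grp} (hg : pt g (basePts.getD i 0) = basePts.getD i 0)
    {q : ℕ} (hq : q < He2058.cert.T.n) :
    lab (run1 (toZero.getD i []) (pt g q)) = lab (run1 (toZero.getD i []) q) := by
  have h := List.all_eq_true.mp toZero_ok i (List.mem_range.mpr hi)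
  simp only [Bool.and_eq_true] at h
  obtain ⟨⟨hu, ha⟩, h0⟩ := h
  set u := toZero.getD i []
  set a := basePts.getD i 0
  have ha' : a < He2058.cert.T.n := blt_iff.mp ha
  have hua : pt (el u) a = 0 := (pt_el hu ha').trans (Nat.eq_of_beq_eq_true h0)
  set c := el u * g * (el u)⁻¹ with hc
  have hn : (0 : ℕ) < He2058.cert.T.n := He2058.cert.hn
  have hinv0 : pt (el u)⁻¹ 0 = a := by
    rw [← hua, ← pt_mul _ _ ha', inv_mul_cancel, pt_one]
  have hfix : π c ⟨0, hn⟩ = ⟨0, hn⟩ := by
    refine Fin.ext ((pt_val c ⟨0, hn⟩).symm.trans ?_)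
    show pt c 0 = 0
    rw [hc, pt_mul _ _ hn, hinv0, pt_mul _ _ ha', hg, hua]
  have hsub := He2058.cert.mem_sub_of_fix He2058.hlt hid He2058.hhw hfix
  have hq1 := pt_lt (el u) hq
  have hl := He2058.cert.lab_invariant He2058.hlt hid He2058.hhw He2058.orb He2058.roots He2058.hwR rfl
    He2058.orbs c hsub ⟨pt (el u) q, hq1⟩
  rw [← pt_val] at hl
  have e : pt c (pt (el u) q) = pt (el u) (pt g q) := by
    rw [hc, ← pt_mul _ _ hq, inv_mul_cancel_right, pt_mul _ _ hq]
  rw [← pt_el hu hq, ← pt_el hu (pt_lt g hq), ← e]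
  exact hl

theorem sig_inv {k : ℕ} (hk : k ≤ 7) {g : presHe.Grp} (hg : g ∈ Cd)
    (hfix : ∀ a ∈ basePts.take k, pt g a = a) {b : ℕ} (hb : b < He2058.cert.T.n) :
    sigEq k (pt g b) b = true := by
  have hz1 := pt_lt dd hb
  have hgz : run1 [3] (pt g b) = pt g (run1 [3] b) := by
    rw [← dd_pt (pt_lt g hb), ← pt_mul _ _ hb, ← mem_Cd.mp hg, pt_mul _ _ hb, dd_pt hb]
  rw [dd_pt hb] at hz1
  simp only [sigEq, Bool.and_eq_true, List.all_eq_true, beq_iff_eq]
  refine ⟨?_, fun u hu => ?_⟩
  · rw [hgz]
    cases hb0 : Nat.beq (run1 [3] b) b with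
    | true =>
      rw [Nat.eq_of_beq_eq_true hb0]
      exact Nat.beq_refl _
    | false =>
      cases hb1 : Nat.beq (pt g (run1 [3] b)) (pt g b) with
      | false => rfl
      | true =>
        have h2 : pt g⁻¹ (pt g (run1 [3] b)) = pt g⁻¹ (pt g b) := by rw [Nat.eq_of_beq_eq_true hb1]
        rw [← pt_mul _ _ hz1, ← pt_mul _ _ hb, inv_mul_cancel, pt_one, pt_one] at h2
        rw [h2, Nat.beq_refl] at hb0
        exact hb0
  · obtain ⟨i, hi, rfl⟩ := List.mem_iff_getElem.mp hu
    rw [List.length_take, lengths.1] at hi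
    have hik : i < k := lt_of_lt_of_le hi (min_le_left _ _)
    have hi7 : i < 7 := lt_of_lt_of_le hi (min_le_right _ _)
    have hmem : basePts.getD i 0 ∈ basePts.take k := by
      rw [List.getD_eq_getElem _ _ (lengths.2 ▸ hi7)]
      exact List.mem_take_iff_getElem.mpr ⟨i, by rw [lengths.2]; exact hi, rfl⟩
    have e : (toZero.take k)[i]'(by rw [List.length_take, lengths.1]; exact hi) = toZero.getD i [] := by
      rw [List.getElem_take, List.getD_eq_getElem _ _ (lengths.1 ▸ hi7)]
    rw [e, hgz, lab_fix hi7 (hfix _ hmem) hb, lab_fix hi7 (hfix _ hmem) hz1]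
    exact ⟨Nat.beq_refl _, Nat.beq_refl _⟩

theorem pt_mem_cand {k : ℕ} (hk : k ≤ 7) {g : presHe.Grp} (hg : g ∈ Cd)
    (hfix : ∀ a ∈ basePts.take k, pt g a = a) {b : ℕ} (hb : b < He2058.cert.T.n) :
    pt g b ∈ candList k b :=
  List.mem_filter.mpr ⟨List.mem_range.mpr (pt_lt g hb), sig_inv hk hg hfix hb⟩

theorem cand0_ok : candList 0 0 = cand0 := by decide +kernel
theorem cand1_ok : candList 1 1 = cand1 := by decide +kernel
theorem cand2_ok : candList 2 258 = cand2 := by decide +kernel
theorem cand3_ok : candList 3 289 = cand3 := by decide +kernel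
theorem cand4_ok : candList 4 36 = cand4 := by decide +kernel
theorem cand5_ok : candList 5 497 = cand5 := by decide +kernel
theorem cand6_ok : candList 6 30 = cand6 := by decide +kernel
theorem cand7_ok : six.map (candList 7) = [cand7, cand8, cand9, cand10, cand11, cand12] := by decide +kernel

/-- An element of the centraliser fixing the first five points is trivial. -/
theorem eq_one_of_five {g : presHe.Grp} (hg : g ∈ Cd) (hfix : ∀ a ∈ basePts.take 5, pt g a = a) : g = 1 := by
  have h5 : pt g 497 = 497 :=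
    List.mem_singleton.mp (show pt g 497 ∈ cand5 from
      cand5_ok ▸ pt_mem_cand (by decide) hg hfix (show 497 < 2058 by decide))
  have hfix6 : ∀ a ∈ basePts.take 6, pt g a = a := by
    intro a ha
    rw [show basePts.take 6 = basePts.take 5 ++ [497] from rfl, List.mem_append] at ha
    rcases ha with ha | ha
    · exact hfix a ha
    · rw [List.mem_singleton.mp ha]; exact h5
  have h6 : pt g 30 = 30 :=
    List.mem_singleton.mp (show pt g 30 ∈ cand6 from
      cand6_ok ▸ pt_mem_cand (by decide) hg hfix6 (show 30 < 2058 by decide))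
  have hfix7 : ∀ a ∈ basePts.take 7, pt g a = a := by
    intro a ha
    rw [show basePts.take 7 = basePts.take 6 ++ [30] from rfl, List.mem_append] at ha
    rcases ha with ha | ha
    · exact hfix6 a ha
    · rw [List.mem_singleton.mp ha]; exact h6
  refine eq_one_of_six fun b hb => ?_
  have hm := pt_mem_cand le_rfl hg hfix7 (six_lt b hb)
  have hmap := cand7_ok
  simp only [six, List.map_cons, List.map_nil, List.cons.injEq, and_true] at hmap
  obtain ⟨e0, e1, e2, e3, e4, e5⟩ := hmap
  fin_cases hb
  · rw [e0] at hm; exact List.mem_singleton.mp hm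
  · rw [e1] at hm; exact List.mem_singleton.mp hm
  · rw [e2] at hm; exact List.mem_singleton.mp hm
  · rw [e3] at hm; exact List.mem_singleton.mp hm
  · rw [e4] at hm; exact List.mem_singleton.mp hm
  · rw [e5] at hm; exact List.mem_singleton.mp hm

/-- The elements of the centraliser fixing the first `k` points. -/
noncomputable def stage (k : ℕ) : Subgroup presHe.Grp :=
  Cd ⊓ He2058.cert.fixSub He2058.hlt (basePts.take k)

theorem mem_stage {k : ℕ} {g : presHe.Grp} (h : g ∈ stage k) {a : ℕ} (ha : a ∈ basePts.take k)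
    (hlt : a < He2058.cert.T.n) : pt g a = a :=
  (pt_val g ⟨a, hlt⟩).trans (congrArg Fin.val (h.2 ⟨a, hlt⟩ ha))

theorem stage_step (k : ℕ) (hk : k < 7) (b : ℕ) (hb : b < He2058.cert.T.n)
    (htake : basePts.take (k + 1) = basePts.take k ++ [b]) (L : List ℕ) (hL : candList k b = L) :
    Nat.card (stage k) ≤ L.length * Nat.card (stage (k + 1)) := by
  classical
  set S := stage k
  let act : MulAction S (Fin He2058.cert.T.n) := MulAction.compHom _ (π.comp S.subtype)
  set p : Fin He2058.cert.T.n := ⟨b, hb⟩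
  have hall : ∀ a ∈ basePts, a < He2058.cert.T.n := fun a ha =>
    (show ∀ a ∈ basePts, a < 2058 by decide) a ha
  have horb : Nat.card (MulAction.orbit S p) ≤ L.length := by
    have h1 : ∀ x : MulAction.orbit S p, ((x : Fin He2058.cert.T.n) : ℕ) ∈ L.toFinset := by
      rintro ⟨_, ⟨g, hg⟩, rfl⟩
      rw [List.mem_toFinset, ← hL]
      show (π g p : ℕ) ∈ _
      rw [← pt_val]
      exact pt_mem_cand hk.le hg.1 (fun a ha => mem_stage hg ha (hall a (List.mem_of_mem_take ha))) hb
    calc Nat.card (MulAction.orbit S p) ≤ Nat.card {n // n ∈ L.toFinset} :=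
          Nat.card_le_card_of_injective (fun x => ⟨_, h1 x⟩) fun x y e =>
            Subtype.ext (Fin.ext (congrArg Subtype.val e))
      _ ≤ L.length := by
          rw [Nat.card_eq_fintype_card, Fintype.card_coe]
          exact List.toFinset_card_le L
  have hstab : (MulAction.stabilizer S p).map S.subtype = stage (k + 1) := by
    ext g
    rw [stage, htake]
    constructor
    · rintro ⟨⟨g, hg⟩, hgb, rfl⟩
      refine ⟨hg.1, fun d hd => ?_⟩
      rcases List.mem_append.mp hd with hd | hd
      · exact hg.2 d hd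
      · have : d = p := Fin.ext (List.mem_singleton.mp hd)
        subst this
        exact hgb
    · intro hg
      exact ⟨⟨g, hg.1, fun d hd => hg.2 d (List.mem_append_left _ hd)⟩,
        hg.2 p (List.mem_append_right _ (List.mem_singleton_self _)), rfl⟩
  have hc := (MulAction.stabilizer S p).card_mul_index
  rw [MulAction.index_stabilizer, ← Nat.card_coe_set_eq] at hc
  rw [← hstab, Subgroup.card_map_of_injective S.subtype_injective, ← hc, mul_comm]
  exact Nat.mul_le_mul_right _ horb

theorem card_Cd_le : Nat.card Cd ≤ 21504 := by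
  have h5 : Nat.card (stage 5) ≤ 1 := by
    rw [Subgroup.card_le_one_iff_eq_bot, Subgroup.eq_bot_iff_forall]
    exact fun g hg => eq_one_of_five hg.1 fun a ha =>
      mem_stage hg ha ((show ∀ a ∈ basePts, a < 2058 by decide) a (List.mem_of_mem_take ha))
  have h4 := stage_step 4 (by decide) 36 (show 36 < 2058 by decide) rfl _ cand4_ok
  have h3 := stage_step 3 (by decide) 289 (show 289 < 2058 by decide) rfl _ cand3_ok
  have h2 := stage_step 2 (by decide) 258 (show 258 < 2058 by decide) rfl _ cand2_ok
  have h1 := stage_step 1 (by decide) 1 (show 1 < 2058 by decide) rfl _ cand1_ok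
  have h0 := stage_step 0 (by decide) 0 (show 0 < 2058 by decide) rfl _ cand0_ok
  have e : stage 0 = Cd := inf_eq_left.mpr fun g _ d hd => absurd hd (by simp)
  rw [e] at h0
  rw [show cand0.length = 42 from rfl] at h0
  rw [show cand1.length = 16 from rfl] at h1
  rw [show cand2.length = 4 from rfl] at h2
  rw [show cand3.length = 4 from rfl] at h3
  rw [show cand4.length = 2 from rfl] at h4
  norm_num at h0 h1 h2 h3 h4 h5 ⊢
  omega

/-- The images of the points determining the centraliser. -/
noncomputable def img (g : presHe.Grp) : List ℕ := basePts.map (pt g)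

theorem eq_of_img {g h : presHe.Grp} (hg : g ∈ Cd) (hh : h ∈ Cd) (e : img g = img h) : g = h := by
  refine (inv_mul_eq_one.mp (eq_one_of_five (g := h⁻¹ * g) (mul_mem (inv_mem hh) hg) fun a ha => ?_)).symm
  have ha' := List.mem_of_mem_take ha
  have hlt : a < He2058.cert.T.n := (show ∀ a ∈ basePts, a < 2058 by decide) a ha'
  rw [pt_mul _ _ hlt, List.map_inj_left.mp e a ha', ← pt_mul _ _ hlt, inv_mul_cancel, pt_one]

theorem img_el_mul {w : List ℕ} (hw : okWord w = true) (g : presHe.Grp) :
    img (el w * g) = (img g).map (run1 w) := by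
  rw [img, img, List.map_map]
  refine List.map_congr_left fun a ha => ?_
  have hlt : a < He2058.cert.T.n := (show ∀ a ∈ basePts, a < 2058 by decide) a ha
  rw [Function.comp_apply, pt_mul _ _ hlt, pt_el hw (pt_lt g hlt)]

theorem img_one : img 1 = basePts := by
  rw [img]
  exact (List.map_congr_left fun a _ => pt_one a).trans basePts.map_id

theorem dd_order : orderOf dd = 2 := by
  refine orderOf_eq_prime (by rw [pow_two, dd_sq]) fun h => ?_
  have h1 := dd_pt (b := 258) (show 258 < 2058 by decide)
  rw [h, pt_one] at h1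
  exact absurd h1 (by decide +kernel)

end CfsgLib.HeCent
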