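/-
Packed five by five matrices over the field with two elements, and the centraliser of a transvection.
-/
import Mathlib.LinearAlgebra.Matrix.SpecialLinearGroup
import Mathlib.LinearAlgebra.Matrix.GeneralLinearGroup.Card
import Mathlib.Data.ZMod.Basic
import Mathlib.Algebra.Field.ZMod
import Mathlib.LinearAlgebra.Matrix.Transvection

set_option autoImplicit false

namespace CfsgLib.HeCent

open Matrix

/-- An entry of a packed matrix. -/
def bitc (c i j : ℕ) : Bool := Nat.testBit c (5 * j + i)

/-- The matrix of a code. -/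
def mat (c : ℕ) : Matrix (Fin 5) (Fin 5) (ZMod 2) := Matrix.of fun i j => cond (bitc c i j) 1 0

/-- The check of a product of packed matrices. -/
def mulOK (a b c : ℕ) : Bool :=
  (List.finRange 5).all fun i : Fin 5 => (List.finRange 5).all fun j : Fin 5 =>
    ((((((bitc a i 0 && bitc b 0 j) != (bitc a i 1 && bitc b 1 j)) != (bitc a i 2 && bitc b 2 j)) !=
      (bitc a i 3 && bitc b 3 j)) != (bitc a i 4 && bitc b 4 j))) == bitc c i j

theorem mat_mul {a b c : ℕ} (h : mulOK a b c = true) : mat a * mat b = mat c := by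
  refine Matrix.ext fun i j => ?_
  simp only [mulOK, List.all_eq_true, List.mem_finRange, forall_true_left, beq_iff_eq] at h
  have hij := h i j
  rw [Matrix.mul_apply, Fin.sum_univ_five]
  simp only [mat, Matrix.of_apply]
  rw [← hij]
  show cond (bitc a i 0) 1 0 * cond (bitc b 0 j) 1 0 + cond (bitc a i 1) 1 0 * cond (bitc b 1 j) 1 0 +
    cond (bitc a i 2) 1 0 * cond (bitc b 2 j) 1 0 + cond (bitc a i 3) 1 0 * cond (bitc b 3 j) 1 0 +
    cond (bitc a i 4) 1 0 * cond (bitc b 4 j) 1 0 = (_ : ZMod 2)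
  cases bitc a i 0 <;> cases bitc a i 1 <;> cases bitc a i 2 <;> cases bitc a i 3 <;> cases bitc a i 4 <;>
    cases bitc b 0 j <;> cases bitc b 1 j <;> cases bitc b 2 j <;> cases bitc b 3 j <;> cases bitc b 4 j <;> rfl

theorem mat_injective {a b : ℕ} (ha : a < 2 ^ 25) (hb : b < 2 ^ 25) (h : mat a = mat b) : a = b := by
  refine Nat.eq_of_testBit_eq fun k => ?_
  by_cases hk : k < 25
  · have := congrFun (congrFun h ⟨k % 5, Nat.mod_lt _ (by norm_num)⟩) ⟨k / 5, by omega⟩
    simp only [mat, Matrix.of_apply, bitc, Nat.div_add_mod] at this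
    revert this
    cases a.testBit k <;> cases b.testBit k <;> decide
  · rw [Nat.testBit_lt_two_pow (lt_of_lt_of_le ha (Nat.pow_le_pow_right two_pos (not_lt.mp hk))),
      Nat.testBit_lt_two_pow (lt_of_lt_of_le hb (Nat.pow_le_pow_right two_pos (not_lt.mp hk)))]

theorem mat_one : mat 17043521 = 1 := by decide +kernel

theorem mat_transvection : mat 17043553 = Matrix.transvection (0 : Fin 5) 1 (1 : ZMod 2) := by
  decide +kernel

theorem det_one_of_mul {A B : Matrix (Fin 5) (Fin 5) (ZMod 2)} (h : A * B = 1) : A.det = 1 := by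
  have h1 := congrArg Matrix.det h
  rw [Matrix.det_mul, Matrix.det_one] at h1
  exact (show ∀ x y : ZMod 2, x * y = 1 → x = 1 by decide) _ _ h1

theorem card_centralizer_le (s : Matrix.SpecialLinearGroup (Fin 5) (ZMod 2))
    (hs : (s : Matrix (Fin 5) (Fin 5) (ZMod 2)) = Matrix.transvection 0 1 1) :
    Nat.card (Subgroup.centralizer ({s} : Set (Matrix.SpecialLinearGroup (Fin 5) (ZMod 2)))) ≤ 21504 := by
  classical
  set C := Subgroup.centralizer ({s} : Set (Matrix.SpecialLinearGroup (Fin 5) (ZMod 2)))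
  have shape : ∀ A ∈ C, (∀ i, i ≠ 0 → (A.1 i 0) = 0) ∧ (∀ j, j ≠ 1 → A.1 1 j = 0) ∧
      A.1 0 0 = 1 ∧ A.1 1 1 = 1 := by
    intro A hA
    have h : A.1 * Matrix.transvection 0 1 1 = Matrix.transvection 0 1 1 * A.1 := by
      rw [← hs]
      exact congrArg Subtype.val (show A * s = s * A from Subgroup.mem_centralizer_singleton_iff.mp hA)
    have h1 : ∀ i, i ≠ 0 → A.1 i 0 = 0 := by
      intro i hi
      have := congrFun (congrFun h i) 1
      rw [Matrix.transvection_mul_apply_of_ne 0 1 i 1 hi, Matrix.mul_transvection_apply_same 0 1 i] at this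
      simpa using this
    have h2 : ∀ j, j ≠ 1 → A.1 1 j = 0 := by
      intro j hj
      have := congrFun (congrFun h 0) j
      rw [Matrix.mul_transvection_apply_of_ne 0 1 0 j hj, Matrix.transvection_mul_apply_same 0 1 j] at this
      simpa using this.symm
    have h3 : A.1 0 0 = A.1 1 1 := by
      have := congrFun (congrFun h 0) 1
      rw [Matrix.mul_transvection_apply_same 0 1 0, Matrix.transvection_mul_apply_same 0 1 1] at this
      simpa using this
    have h00 : A.1 0 0 = 1 := by
      by_contra hne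
      have h0 : A.1 0 0 = 0 := (show ∀ x : ZMod 2, x ≠ 1 → x = 0 by decide) _ hne
      have := Matrix.det_eq_zero_of_column_eq_zero (A := A.1) 0 fun i => by
        by_cases hi : i = 0
        · rw [hi, h0]
        · exact h1 i hi
      rw [A.2] at this
      exact one_ne_zero this
    exact ⟨h1, h2, h00, h3 ▸ h00⟩
  let sh : Fin 3 → Fin 5 := fun i => i.natAdd 2
  let blk : Matrix.SpecialLinearGroup (Fin 5) (ZMod 2) → Matrix (Fin 3) (Fin 3) (ZMod 2) :=
    fun A => Matrix.of fun i j => A.1 (sh i) (sh j)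
  have hmul : ∀ A ∈ C, ∀ B ∈ C, blk A * blk B = blk (A * B) := by
    intro A hA B hB
    obtain ⟨a1, -, -, -⟩ := shape A hA
    obtain ⟨-, b2, -, -⟩ := shape B hB
    refine Matrix.ext fun i j => ?_
    simp only [blk, Matrix.mul_apply, Matrix.of_apply, Matrix.SpecialLinearGroup.coe_mul]
    rw [Fin.sum_univ_five, Fin.sum_univ_three, a1 (sh i) (by fin_cases i <;> decide),
      b2 (sh j) (by fin_cases j <;> decide), zero_mul, mul_zero, zero_add, zero_add]
    rfl
  have hone : blk 1 = 1 := by
    refine Matrix.ext fun i j => ?_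
    fin_cases i <;> fin_cases j <;> rfl
  let toGL : C → GL (Fin 3) (ZMod 2) := fun A =>
    ⟨blk A, blk A.1⁻¹, by rw [hmul _ A.2 _ (inv_mem A.2), mul_inv_cancel, hone],
      by rw [hmul _ (inv_mem A.2) _ A.2, inv_mul_cancel, hone]⟩
  let f : C → (ZMod 2 × (Fin 3 → ZMod 2) × (Fin 3 → ZMod 2)) × GL (Fin 3) (ZMod 2) := fun A =>
    ((A.1.1 0 1, fun i => A.1.1 (sh i) 1, fun j => A.1.1 0 (sh j)), toGL A)
  have hf : Function.Injective f := by
    intro A B e
    simp only [f, Prod.mk.injEq] at e
    obtain ⟨⟨e1, e2, e3⟩, e4⟩ := e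
    obtain ⟨a1, a2, a3, a4⟩ := shape A A.2
    obtain ⟨b1, b2, b3, b4⟩ := shape B B.2
    have e4' : blk A = blk B := congrArg Units.val e4
    refine Subtype.ext (Subtype.ext (Matrix.ext fun i j => ?_))
    by_cases hj0 : j = 0
    · subst hj0
      by_cases hi : i = 0
      · rw [hi, a3, b3]
      · rw [a1 i hi, b1 i hi]
    by_cases hi1 : i = 1
    · subst hi1
      by_cases hj : j = 1
      · rw [hj, a4, b4]
      · rw [a2 j hj, b2 j hj]
    by_cases hi0 : i = 0
    · subst hi0
      by_cases hj : j = 1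
      · rw [hj]; exact e1
      · obtain ⟨j', rfl⟩ : ∃ j', sh j' = j := by
          revert j; decide
        exact congrFun e3 j'
    obtain ⟨i', rfl⟩ : ∃ i', sh i' = i := by
      revert i; decide
    by_cases hj : j = 1
    · rw [hj]; exact congrFun e2 i'
    · obtain ⟨j', rfl⟩ : ∃ j', sh j' = j := by
        revert j; decide
      exact congrFun (congrFun e4' i') j'
  refine (Nat.card_le_card_of_injective f hf).trans (le_of_eq ?_)
  haveI : Fact (Nat.Prime 2) := ⟨Nat.prime_two⟩
  rw [Nat.card_prod, Matrix.card_GL_field (𝔽 := ZMod 2)]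
  simp [Nat.card_eq_fintype_card, Fin.prod_univ_three]

end CfsgLib.HeCent
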