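/-
The centraliser of `d` in the Held group is the centraliser of a transvection in `SL(5, 2)`.
-/
import Cfsg.Agent.Lib.HeCent.Action
import Cfsg.Agent.Lib.HeCent.Mat

set_option autoImplicit false
set_option maxRecDepth 100000

namespace CfsgLib.HeCent

open CfsgLib.CosetEnum

local notation "SL5" => Matrix.SpecialLinearGroup (Fin 5) (ZMod 2)

/-- The identity matrix. -/
def oneCode : ℕ := 17043521

/-- The code of the transvection. -/
def sCode : ℕ := 17043553

/-- The checks of the generators. -/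
noncomputable def genOK (g : ℕ) : Bool :=
  force (gm.getD g 0) fun a => okComm (gw.getD g []) && mulOK a (gmInv.getD g 0) oneCode

theorem gens_ok : ((List.range 8).all genOK) = true := by decide +kernel

/-- The products of the generators with the transvection. -/
def sProd : List ℕ := [17043681, 17043809, 17044065, 17044577, 17076321, 18092129, 25440353, 25587809]

theorem sProd_ok : ((List.range 8).all fun g => mulOK (gm.getD g 0) sCode (sProd.getD g 0) &&
    mulOK sCode (gm.getD g 0) (sProd.getD g 0)) = true := by decide +kernel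

theorem gen_spec {g : ℕ} (hg : g < 8) :
    okWord (gw.getD g []) = true ∧ el (gw.getD g []) ∈ Cd ∧ mat (gm.getD g 0) * mat (gmInv.getD g 0) = 1 ∧
      mat (gm.getD g 0) * mat sCode = mat sCode * mat (gm.getD g 0) := by
  have h := List.all_eq_true.mp gens_ok g (List.mem_range.mpr hg)
  simp only [genOK, force_eq, Bool.and_eq_true] at h
  have hs := List.all_eq_true.mp sProd_ok g (List.mem_range.mpr hg)
  simp only [Bool.and_eq_true] at hs
  refine ⟨?_, mem_Cd.mpr (comm_of_ok h.1), (mat_mul h.2).trans mat_one, (mat_mul hs.1).trans (mat_mul hs.2).symm⟩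
  have := h.1
  simp only [okComm, Bool.and_eq_true] at this
  exact this.1

/-- The pair of a generator. -/
noncomputable def pair (g : Fin 8) : presHe.Grp × SL5 :=
  (el (gw.getD g.1 []), ⟨mat (gm.getD g.1 0), det_one_of_mul (gen_spec g.2).2.2.1⟩)

/-- The checks of one part: left multiplication of the element `i` by the generator `g`. -/
noncomputable def clOK (g : ℕ) (K : List (List ℕ)) (M row : List ℕ) (i : ℕ) : Bool :=
  force (row.getD i 0) fun t => Nat.blt t K.length &&
    ((K.getD i []).map (run1 (gw.getD g [])) == K.getD t []) && mulOK (gm.getD g 0) (M.getD i 0) (M.getD t 0)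

/-- The checks of one part: the parent of the element `i`. -/
def parOK (gens : List ℕ) (par : List (ℕ × ℕ)) (cl : List (List ℕ)) (i : ℕ) : Bool :=
  Nat.beq i 0 || (Nat.blt (par.getD i (0, 0)).1 i && gens.contains (par.getD i (0, 0)).2 &&
    Nat.beq ((cl.getD (gens.idxOf (par.getD i (0, 0)).2) []).getD (par.getD i (0, 0)).1 0) i)

section Part

variable (s : SL5) (hs : (s : Matrix (Fin 5) (Fin 5) (ZMod 2)) = mat sCode)

/-- The data of an element of the product. -/
def Val (key : List ℕ) (c : ℕ) (g : presHe.Grp × SL5) : Prop :=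
  g.1 ∈ Cd ∧ g.2 ∈ Subgroup.centralizer ({s} : Set SL5) ∧ img g.1 = key ∧ g.2.1 = mat c

variable {s}

theorem Val.unique {key : List ℕ} {c : ℕ} {g h : presHe.Grp × SL5} (hg : Val s key c g) (hh : Val s key c h) :
    g = h :=
  Prod.ext (eq_of_img hg.1 hh.1 (hg.2.2.1.trans hh.2.2.1.symm)) (Subtype.ext (hg.2.2.2.trans hh.2.2.2.symm))

theorem val_one : Val s basePts oneCode 1 := ⟨one_mem _, one_mem _, img_one, mat_one.symm⟩

include hs in
theorem pair_mem (g : Fin 8) : (pair g).1 ∈ Cd ∧ (pair g).2 ∈ Subgroup.centralizer ({s} : Set SL5) := by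
  refine ⟨(gen_spec g.2).2.1, Subgroup.mem_centralizer_singleton_iff.mpr (Subtype.ext ?_)⟩
  simp only [Matrix.SpecialLinearGroup.coe_mul, hs]
  exact (gen_spec g.2).2.2.2

/-- One of the two parts of the group. -/
noncomputable def part (gens : List ℕ) : Subgroup (presHe.Grp × SL5) :=
  Subgroup.closure {p | ∃ g : Fin 8, g.1 ∈ gens ∧ pair g = p}

include hs in
theorem part_spec (gens : List ℕ) (K : List (List ℕ)) (M : List ℕ) (par : List (ℕ × ℕ)) (cl : List (List ℕ))
    (hg8 : ∀ g ∈ gens, g < 8) (hpos : 0 < K.length) (hK0 : K.getD 0 [] = basePts) (hM0 : M.getD 0 0 = oneCode)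
    (hcl : ((List.range gens.length).all fun p => (List.range K.length).all fun i =>
      clOK (gens.getD p 0) K M (cl.getD p []) i) = true)
    (hpar : ((List.range K.length).all (parOK gens par cl)) = true) :
    (∀ x ∈ part gens, ∃ i < K.length, Val s (K.getD i []) (M.getD i 0) x) ∧
      ∀ i < K.length, ∃ x ∈ part gens, Val s (K.getD i []) (M.getD i 0) x := by
  have step : ∀ g : Fin 8, g.1 ∈ gens → ∀ i < K.length, ∀ x, Val s (K.getD i []) (M.getD i 0) x →
      (cl.getD (gens.idxOf g.1) []).getD i 0 < K.length ∧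
        Val s (K.getD ((cl.getD (gens.idxOf g.1) []).getD i 0) []) (M.getD ((cl.getD (gens.idxOf g.1) []).getD i 0) 0)
          (pair g * x) := by
    intro g hg i hi x hx
    have hp : gens.idxOf g.1 < gens.length := List.idxOf_lt_length_of_mem hg
    have h := List.all_eq_true.mp (List.all_eq_true.mp hcl _ (List.mem_range.mpr hp)) i (List.mem_range.mpr hi)
    rw [List.getD_eq_getElem _ _ hp, List.getElem_idxOf hp] at h
    simp only [clOK, force_eq, Bool.and_eq_true, beq_iff_eq, blt_iff] at h
    obtain ⟨⟨ht, hkey⟩, hmat⟩ := h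
    obtain ⟨x1, x2, x3, x4⟩ := hx
    refine ⟨ht, mul_mem (pair_mem hs g).1 x1, mul_mem (pair_mem hs g).2 x2, ?_, ?_⟩
    · rw [show (pair g * x).1 = el (gw.getD g.1 []) * x.1 from rfl, img_el_mul (gen_spec g.2).1, x3, hkey]
    · show (mat (gm.getD g.1 0)) * x.2.1 = _
      rw [x4, mat_mul hmat]
  have v0 : Val s (K.getD 0 []) (M.getD 0 0) 1 := by rw [hK0, hM0]; exact val_one
  refine ⟨fun x hx => ?_, fun i => ?_⟩
  · have hx' : x ∈ Submonoid.closure {p : presHe.Grp × SL5 | ∃ g : Fin 8, g.1 ∈ gens ∧ pair g = p} := by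
      rw [← Subgroup.closure_toSubmonoid_of_finite]
      exact hx
    induction hx' using Submonoid.closure_induction_left with
    | one => exact ⟨0, hpos, v0⟩
    | mul_left p hp y hy ih =>
      obtain ⟨g, hg, rfl⟩ := hp
      obtain ⟨i, hi, hv⟩ := ih (by
        have : y ∈ (part gens).toSubmonoid := by
          rw [part, Subgroup.closure_toSubmonoid_of_finite]
          exact hy
        exact this)
      exact ⟨_, step g hg i hi y hv⟩
  · induction i using Nat.strong_induction_on with
    | _ i ih =>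
      intro hi
      have h := List.all_eq_true.mp hpar i (List.mem_range.mpr hi)
      simp only [parOK, Bool.or_eq_true, Bool.and_eq_true, blt_iff, List.contains_iff_mem] at h
      rcases h with h | ⟨⟨hp, hg⟩, he⟩
      · rw [Nat.eq_of_beq_eq_true h]
        exact ⟨1, one_mem _, v0⟩
      obtain ⟨y, hy, hv⟩ := ih _ hp (hp.trans hi)
      have hv' := (step ⟨_, hg8 _ hg⟩ hg _ (hp.trans hi) y hv).2
      rw [Nat.eq_of_beq_eq_true he] at hv'
      exact ⟨_, mul_mem (Subgroup.subset_closure ⟨⟨_, hg8 _ hg⟩, hg, rfl⟩) hy, hv'⟩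

end Part

/-- The generators of the normal part. -/
def qGens : List ℕ := [0, 1, 2, 3, 4, 5]

/-- The generators of the complement. -/
def lGens : List ℕ := [6, 7]

theorem qcl_ok : ((List.range qGens.length).all fun p => (List.range qKey.length).all fun i =>
    clOK (qGens.getD p 0) qKey qMat (qCl.getD p []) i) = true := by decide +kernel

theorem lcl_ok : ((List.range lGens.length).all fun p => (List.range lKey.length).all fun i =>
    clOK (lGens.getD p 0) lKey lMat (lCl.getD p []) i) = true := by decide +kernel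

theorem qpar_ok : ((List.range qKey.length).all (parOK qGens qPar qCl)) = true := by decide +kernel

theorem lpar_ok : ((List.range lKey.length).all (parOK lGens lPar lCl)) = true := by decide +kernel

/-- The check of a conjugate of a generator. -/
noncomputable def conjOK (p : ℕ × ℕ × ℕ × ℕ) : Bool :=
  Nat.blt p.1 8 && Nat.blt p.2.1 8 && Nat.blt p.2.2.1 qKey.length &&
    (((basePts.map (run1 (gw.getD p.1 []).reverse)).map (run1 (gw.getD p.2.1 []))).map (run1 (gw.getD p.1 [])) ==
      qKey.getD p.2.2.1 []) && okWord (gw.getD p.1 []).reverse &&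
    mulOK (gm.getD p.1 0) (gm.getD p.2.1 0) p.2.2.2 && mulOK p.2.2.2 (gmInv.getD p.1 0) (qMat.getD p.2.2.1 0)

theorem conj_ok : (conjTab.all conjOK) = true := by decide +kernel

theorem conj_cover : (lGens.all fun l => qGens.all fun x => conjTab.any fun p => Nat.beq p.1 l && Nat.beq p.2.1 x) =
    true := by decide +kernel

/-- The checks that the two parts meet trivially. -/
def sepOK {α : Type} [BEq α] (A B : List α) (o : α) : Bool :=
  (A.all fun a => a == o || !(B.contains a))

theorem key_sep : sepOK qKey lKey basePts = true := by decide +kernel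

theorem mat_sep : sepOK qMat lMat oneCode = true := by decide +kernel

theorem key_nodup : qKey.Nodup ∧ lKey.Nodup := by decide +kernel

theorem mat_nodup : qMat.Nodup ∧ lMat.Nodup := by decide +kernel

theorem mat_small : ((qMat ++ lMat ++ [oneCode]).all fun c => Nat.blt c (2 ^ 25)) = true := by decide +kernel

theorem getD_mem {α : Type} {l : List α} {i : ℕ} (h : i < l.length) (d : α) : l.getD i d ∈ l := by
  rw [List.getD_eq_getElem _ _ h]; exact List.getElem_mem h

theorem getD_inj {α : Type} {l : List α} (hn : l.Nodup) {i j : ℕ} (hi : i < l.length) (hj : j < l.length)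
    {d : α} (h : l.getD i d = l.getD j d) : i = j := by
  rw [List.getD_eq_getElem _ _ hi, List.getD_eq_getElem _ _ hj] at h
  exact hn.getElem_inj_iff.mp h

theorem code_eq {a b : ℕ} (ha : a ∈ qMat ++ lMat ++ [oneCode]) (hb : b ∈ qMat ++ lMat ++ [oneCode])
    (h : mat a = mat b) : a = b :=
  mat_injective (blt_iff.mp (List.all_eq_true.mp mat_small a ha)) (blt_iff.mp (List.all_eq_true.mp mat_small b hb)) h

theorem model (s : SL5) (hs : (s : Matrix (Fin 5) (Fin 5) (ZMod 2)) = Matrix.transvection 0 1 1) :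
    ∃ ψ : Cd ≃* Subgroup.centralizer ({s} : Set SL5),
      (∀ g : Fin 8, ∀ h : el (gw.getD g.1 []) ∈ Cd, ((ψ ⟨_, h⟩ : SL5) : Matrix (Fin 5) (Fin 5) (ZMod 2)) = mat (gm.getD g.1 0)) ∧
      (∀ x : Subgroup.centralizer ({s} : Set SL5), ∃ i < qKey.length, ∃ j < lKey.length,
        ((x : SL5) : Matrix (Fin 5) (Fin 5) (ZMod 2)) = mat (qMat.getD i 0) * mat (lMat.getD j 0)) ∧
      (∀ i < qKey.length, ∀ j < lKey.length, ∃ x : Subgroup.centralizer ({s} : Set SL5),
        ((x : SL5) : Matrix (Fin 5) (Fin 5) (ZMod 2)) = mat (qMat.getD i 0) * mat (lMat.getD j 0)) ∧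
      Nat.card Cd = 21504 := by
  classical
  have hs' : (s : Matrix (Fin 5) (Fin 5) (ZMod 2)) = mat sCode := hs.trans mat_transvection.symm
  set Q := part qGens
  set L := part lGens
  obtain ⟨qin, qout⟩ := part_spec hs' qGens qKey qMat qPar qCl (by decide) (by decide) rfl rfl qcl_ok qpar_ok
  obtain ⟨lin, lout⟩ := part_spec hs' lGens lKey lMat lPar lCl (by decide) (by decide) rfl rfl lcl_ok lpar_ok
  have hq0 : 0 < qKey.length := by decide
  have hql : qMat.length = qKey.length ∧ lMat.length = lKey.length := by decide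
  -- the complement normalises the normal part
  have hnorm : L ≤ Subgroup.normalizer (Q : Set (presHe.Grp × SL5)) := by
    refine (Subgroup.closure_le _).mpr ?_
    rintro _ ⟨l, hl, rfl⟩
    have hle : Q.map (MulAut.conj (pair l)).toMonoidHom ≤ Q := by
      rw [Subgroup.map_le_iff_le_comap]
      refine (Subgroup.closure_le _).mpr ?_
      rintro _ ⟨x, hx, rfl⟩
      have hc := List.all_eq_true.mp (List.all_eq_true.mp conj_cover l.1 hl) x.1 hx
      simp only [List.any_eq_true, Bool.and_eq_true] at hc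
      obtain ⟨⟨l', x', i, c⟩, hp, el', ex'⟩ := hc
      obtain rfl : l' = l.1 := Nat.eq_of_beq_eq_true el'
      obtain rfl : x' = x.1 := Nat.eq_of_beq_eq_true ex'
      have hcp := List.all_eq_true.mp conj_ok _ hp
      simp only [conjOK, Bool.and_eq_true, beq_iff_eq, blt_iff] at hcp
      obtain ⟨⟨⟨⟨⟨⟨-, -⟩, hi⟩, hk⟩, hw⟩, hm1⟩, hm2⟩ := hcp
      obtain ⟨y, hy, hyv⟩ := qout i hi
      show pair l * pair x * (pair l)⁻¹ ∈ Q
      have hv : Val s (qKey.getD i []) (qMat.getD i 0) (pair l * pair x * (pair l)⁻¹) := by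
        obtain ⟨l1, l2⟩ := pair_mem hs' l
        obtain ⟨x1, x2⟩ := pair_mem hs' x
        refine ⟨mul_mem (mul_mem l1 x1) (inv_mem l1), mul_mem (mul_mem l2 x2) (inv_mem l2), ?_, ?_⟩
        · show img (el (gw.getD l.1 []) * el (gw.getD x.1 []) * (el (gw.getD l.1 []))⁻¹) = _
          rw [mul_assoc, img_el_mul (gen_spec l.2).1, img_el_mul (gen_spec x.2).1, ← el_inv,
            ← mul_one (el (gw.getD l.1 []).reverse), img_el_mul hw, img_one, hk]
        · have hinv : (pair l).2⁻¹.1 = mat (gmInv.getD l.1 0) := by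
            have h1 : (pair l).2⁻¹.1 * (pair l).2.1 = 1 := congrArg Subtype.val (inv_mul_cancel (pair l).2)
            calc (pair l).2⁻¹.1 = (pair l).2⁻¹.1 * ((pair l).2.1 * mat (gmInv.getD l.1 0)) := by
                  rw [show (pair l).2.1 = mat (gm.getD l.1 0) from rfl, (gen_spec l.2).2.2.1, mul_one]
              _ = _ := by rw [← mul_assoc, h1, one_mul]
          show (pair l).2.1 * (pair x).2.1 * (pair l).2⁻¹.1 = _
          rw [hinv]
          show mat (gm.getD l.1 0) * mat (gm.getD x.1 0) * _ = _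
          rw [mat_mul hm1, mat_mul hm2]
      exact hyv.unique hv ▸ hy
    refine Subgroup.mem_normalizer_iff.mpr fun y => ?_
    have heq := Subgroup.eq_of_le_of_card_ge hle
      (le_of_eq (Subgroup.card_map_of_injective (f := (MulAut.conj (pair l)).toMonoidHom) (MulAut.conj (pair l)).injective).symm)
    constructor
    · exact fun hy => hle ⟨y, hy, rfl⟩
    · intro hy
      rw [← heq] at hy
      obtain ⟨z, hz, hzy⟩ := hy
      exact (MulAut.conj (pair l)).injective hzy ▸ hz
  set X := Q ⊔ L
  have hsplit : ∀ x ∈ X, ∃ q ∈ Q, ∃ l ∈ L, q * l = x := by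
    intro x hx
    have h : x ∈ ((Q ⊔ L : Subgroup _) : Set (presHe.Grp × SL5)) := hx
    rw [Subgroup.coe_mul_of_right_le_normalizer_left _ _ hnorm] at h
    exact Set.mem_mul.mp h
  have hX1 : ∀ x ∈ X, x.1 ∈ Cd ∧ x.2 ∈ Subgroup.centralizer ({s} : Set SL5) := by
    intro x hx
    obtain ⟨q, hq, l, hl, rfl⟩ := hsplit x hx
    obtain ⟨i, -, hv⟩ := qin q hq
    obtain ⟨j, -, hw⟩ := lin l hl
    exact ⟨mul_mem hv.1 hw.1, mul_mem hv.2.1 hw.2.1⟩
  have triv : ∀ q ∈ Q, ∀ l ∈ L, (q.1 = l.1 ∨ q.2 = l.2) → q = 1 ∧ l = 1 := by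
    intro q hq l hl h
    obtain ⟨i, hi, hv⟩ := qin q hq
    obtain ⟨j, hj, hw⟩ := lin l hl
    have key : i = 0 ∧ j = 0 := by
      rcases h with h | h
      · have e : qKey.getD i [] = lKey.getD j [] := by rw [← hv.2.2.1, h, hw.2.2.1]
        have hsep := List.all_eq_true.mp key_sep _ (getD_mem hi [])
        rw [e] at hsep
        simp only [Bool.or_eq_true, beq_iff_eq, Bool.not_eq_true', List.contains_iff_mem,
          ← Bool.not_eq_true, getD_mem hj [], not_true, or_false] at hsep
        refine ⟨getD_inj key_nodup.1 hi hq0 (d := []) ?_, getD_inj key_nodup.2 hj (by decide) (d := []) ?_⟩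
        · rw [e, hsep]; rfl
        · rw [hsep]; rfl
      · have hi' : i < qMat.length := hql.1 ▸ hi
        have hj' : j < lMat.length := hql.2 ▸ hj
        have e : qMat.getD i 0 = lMat.getD j 0 := code_eq
          (List.mem_append_left _ (List.mem_append_left _ (getD_mem hi' 0)))
          (List.mem_append_left _ (List.mem_append_right _ (getD_mem hj' 0)))
          (by rw [← hv.2.2.2, h, hw.2.2.2])
        have hsep := List.all_eq_true.mp mat_sep _ (getD_mem hi' 0)
        rw [e] at hsep
        simp only [Bool.or_eq_true, beq_iff_eq, Bool.not_eq_true', List.contains_iff_mem,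
          ← Bool.not_eq_true, getD_mem hj' 0, not_true, or_false] at hsep
        refine ⟨getD_inj mat_nodup.1 hi' (by decide) (d := 0) ?_, getD_inj mat_nodup.2 hj' (by decide) (d := 0) ?_⟩
        · rw [e, hsep]; rfl
        · rw [hsep]; rfl
    obtain ⟨rfl, rfl⟩ := key
    exact ⟨hv.unique val_one, hw.unique val_one⟩
  let f1 : X →* Cd := ((MonoidHom.fst presHe.Grp SL5).comp X.subtype).codRestrict Cd fun x => (hX1 x x.2).1
  let f2 : X →* Subgroup.centralizer ({s} : Set SL5) :=
    ((MonoidHom.snd presHe.Grp SL5).comp X.subtype).codRestrict _ fun x => (hX1 x x.2).2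
  have inj1 : Function.Injective f1 := by
    refine (injective_iff_map_eq_one f1).mpr fun ⟨x, hx⟩ h => Subtype.ext ?_
    obtain ⟨q, hq, l, hl, rfl⟩ := hsplit x hx
    have h1 : (q * l).1 = 1 := congrArg Subtype.val h
    obtain ⟨e1, e2⟩ := triv q hq l⁻¹ (inv_mem hl) (Or.inl (eq_inv_of_mul_eq_one_left h1))
    show q * l = 1
    rw [e1, inv_eq_one.mp e2, mul_one]
  have inj2 : Function.Injective f2 := by
    refine (injective_iff_map_eq_one f2).mpr fun ⟨x, hx⟩ h => Subtype.ext ?_
    obtain ⟨q, hq, l, hl, rfl⟩ := hsplit x hx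
    have h1 : (q * l).2 = 1 := congrArg Subtype.val h
    obtain ⟨e1, e2⟩ := triv q hq l⁻¹ (inv_mem hl) (Or.inr (eq_inv_of_mul_eq_one_left h1))
    show q * l = 1
    rw [e1, inv_eq_one.mp e2, mul_one]
  have hcard : 21504 ≤ Nat.card X := by
    choose qe qeQ qev using qout
    choose le' leL lev using lout
    let F : Fin qKey.length × Fin lKey.length → X := fun p =>
      ⟨qe p.1 p.1.2 * le' p.2 p.2.2, mul_mem (Subgroup.mem_sup_left (qeQ _ _)) (Subgroup.mem_sup_right (leL _ _))⟩
    have hF : Function.Injective F := by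
      rintro ⟨a, b⟩ ⟨c, d⟩ h
      have h1 : qe a a.2 * le' b b.2 = qe c c.2 * le' d d.2 := congrArg Subtype.val h
      have h2 : (qe c c.2)⁻¹ * qe a a.2 = le' d d.2 * (le' b b.2)⁻¹ := by
        rw [eq_mul_inv_iff_mul_eq, mul_assoc, h1, inv_mul_cancel_left]
      obtain ⟨e1, e2⟩ := triv _ (mul_mem (inv_mem (qeQ c c.2)) (qeQ a a.2)) _
        (mul_mem (leL d d.2) (inv_mem (leL b b.2))) (Or.inl (congrArg Prod.fst h2))
      have ea : qe a a.2 = qe c c.2 := (inv_mul_eq_one.mp e1).symm
      have eb : le' b b.2 = le' d d.2 := (mul_inv_eq_one.mp e2).symm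
      have k1 : qKey.getD a [] = qKey.getD c [] := by rw [← (qev a a.2).2.2.1, ea, (qev c c.2).2.2.1]
      have k2 : lKey.getD b [] = lKey.getD d [] := by rw [← (lev b b.2).2.2.1, eb, (lev d d.2).2.2.1]
      exact Prod.ext (Fin.ext (getD_inj key_nodup.1 a.2 c.2 k1)) (Fin.ext (getD_inj key_nodup.2 b.2 d.2 k2))
    have := Nat.card_le_card_of_injective F hF
    simpa [show qKey.length = 128 from rfl, show lKey.length = 168 from rfl] using this
  have b1 : Function.Bijective f1 :=
    (Nat.bijective_iff_injective_and_card f1).mpr ⟨inj1, le_antisymm (Nat.card_le_card_of_injective f1 inj1)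
      (card_Cd_le.trans hcard)⟩
  have b2 : Function.Bijective f2 :=
    (Nat.bijective_iff_injective_and_card f2).mpr ⟨inj2, le_antisymm (Nat.card_le_card_of_injective f2 inj2)
      ((card_centralizer_le s hs).trans hcard)⟩
  refine ⟨(MulEquiv.ofBijective f1 b1).symm.trans (MulEquiv.ofBijective f2 b2), fun g h => ?_, fun x => ?_, fun i hi j hj => ?_, ?_⟩
  · have hgX : pair g ∈ X := by
      by_cases hg : g.1 < 6
      · refine Subgroup.mem_sup_left (Subgroup.subset_closure ⟨g, ?_, rfl⟩)
        obtain ⟨g, hg8⟩ := g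
        simp only at hg
        interval_cases g <;> simp [qGens]
      · refine Subgroup.mem_sup_right (Subgroup.subset_closure ⟨g, ?_, rfl⟩)
        obtain ⟨g, hg8⟩ := g
        simp only at hg
        interval_cases g <;> simp [lGens] at hg ⊢
    have e : (MulEquiv.ofBijective f1 b1).symm ⟨_, h⟩ = ⟨pair g, hgX⟩ :=
      (MulEquiv.symm_apply_eq _).mpr rfl
    rw [MulEquiv.trans_apply, e]
    rfl
  · obtain ⟨⟨y, hy⟩, rfl⟩ := b2.2 x
    obtain ⟨q, hq, l, hl, rfl⟩ := hsplit y hy
    obtain ⟨i, hi, hv⟩ := qin q hq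
    obtain ⟨j, hj, hw⟩ := lin l hl
    refine ⟨i, hi, j, hj, ?_⟩
    show q.2.1 * l.2.1 = _
    rw [hv.2.2.2, hw.2.2.2]
  · obtain ⟨q, hq, hv⟩ := qout i hi
    obtain ⟨l, hl, hw⟩ := lout j hj
    refine ⟨f2 ⟨q * l, mul_mem (Subgroup.mem_sup_left hq) (Subgroup.mem_sup_right hl)⟩, ?_⟩
    show q.2.1 * l.2.1 = _
    rw [hv.2.2.2, hw.2.2.2]
  · exact le_antisymm card_Cd_le (hcard.trans (Nat.card_le_card_of_injective f1 inj1))

theorem centralizer_iso (s : SL5) (hs : (s : Matrix (Fin 5) (Fin 5) (ZMod 2)) = Matrix.transvection 0 1 1) :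
    Nonempty (Cd ≃* Subgroup.centralizer ({s} : Set SL5)) := by
  obtain ⟨ψ, -⟩ := model s hs
  exact ⟨ψ⟩

end CfsgLib.HeCent
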