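/-
Multiplication of packed matrices.
-/
import Cfsg.Agent.Lib.HeCent.Mat
import Cfsg.Agent.Lib.CosetEnum.Sound

set_option autoImplicit false

namespace CfsgLib.HeCent

open CfsgLib.CosetEnum

/-- A column of a packed matrix. -/
noncomputable def col (a j : ℕ) : ℕ := Nat.mod (Nat.shiftRight a (5 * j)) 32

/-- One summand of the image of a vector. -/
noncomputable def part1 (a v j : ℕ) : ℕ := Bool.rec 0 (col a j) (Nat.testBit v j)

/-- The image of a vector. -/
noncomputable def appV (a v : ℕ) : ℕ :=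
  Nat.xor (Nat.xor (Nat.xor (Nat.xor (part1 a v 0) (part1 a v 1)) (part1 a v 2)) (part1 a v 3)) (part1 a v 4)

/-- The product of packed matrices. -/
noncomputable def mulC (a b : ℕ) : ℕ :=
  force a fun a' => force b fun b' =>
    appV a' (col b' 0) + 32 * (appV a' (col b' 1) + 32 * (appV a' (col b' 2) + 32 * (appV a' (col b' 3) +
      32 * appV a' (col b' 4))))

theorem col_lt (a j : ℕ) : col a j < 32 := Nat.mod_lt _ (by norm_num)

theorem part1_lt (a v j : ℕ) : part1 a v j < 2 ^ 5 := by
  unfold part1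
  cases Nat.testBit v j
  · exact Nat.two_pow_pos 5
  · exact col_lt a j

theorem appV_lt (a v : ℕ) : appV a v < 32 :=
  Nat.xor_lt_two_pow (Nat.xor_lt_two_pow (Nat.xor_lt_two_pow (Nat.xor_lt_two_pow (part1_lt a v 0) (part1_lt a v 1))
    (part1_lt a v 2)) (part1_lt a v 3)) (part1_lt a v 4)

theorem testBit_col (a : ℕ) {i : ℕ} (hi : i < 5) (j : ℕ) : Nat.testBit (col a j) i = bitc a i j := by
  show Nat.testBit ((a >>> (5 * j)) % 2 ^ 5) i = _
  rw [Nat.testBit_mod_two_pow, Nat.testBit_shiftRight]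
  simp [hi, bitc]

theorem testBit_part1 (a v : ℕ) {i : ℕ} (hi : i < 5) (j : ℕ) :
    Nat.testBit (part1 a v j) i = (bitc a i j && Nat.testBit v j) := by
  unfold part1
  cases Nat.testBit v j
  · simp
  · simp [testBit_col a hi]

theorem appV_bit (a v : ℕ) {i : ℕ} (hi : i < 5) : Nat.testBit (appV a v) i =
    ((((((bitc a i 0 && Nat.testBit v 0) != (bitc a i 1 && Nat.testBit v 1)) != (bitc a i 2 && Nat.testBit v 2)) !=
      (bitc a i 3 && Nat.testBit v 3)) != (bitc a i 4 && Nat.testBit v 4))) := by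
  show Nat.testBit (part1 a v 0 ^^^ part1 a v 1 ^^^ part1 a v 2 ^^^ part1 a v 3 ^^^ part1 a v 4) i = _
  simp only [Nat.testBit_xor, testBit_part1 a v hi]

theorem mulC_col (a b : ℕ) {j : ℕ} (hj : j < 5) : col (mulC a b) j = appV a (col b j) := by
  have h0 := appV_lt a (col b 0)
  have h1 := appV_lt a (col b 1)
  have h2 := appV_lt a (col b 2)
  have h3 := appV_lt a (col b 3)
  have h4 := appV_lt a (col b 4)
  show ((mulC a b) >>> (5 * j)) % 32 = _
  rw [Nat.shiftRight_eq_div_pow, mulC, force_eq, force_eq]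
  interval_cases j <;> norm_num <;> omega

theorem mat_mulC (a b : ℕ) : mat a * mat b = mat (mulC a b) := by
  refine mat_mul ?_
  simp only [mulOK, List.all_eq_true, beq_iff_eq]
  intro i _ j _
  rw [← testBit_col (mulC a b) i.2 j, mulC_col a b j.2, appV_bit a _ i.2]
  simp only [testBit_col b (show 0 < 5 by norm_num), testBit_col b (show 1 < 5 by norm_num),
    testBit_col b (show 2 < 5 by norm_num), testBit_col b (show 3 < 5 by norm_num),
    testBit_col b (show 4 < 5 by norm_num)]

theorem mulC_lt (a b : ℕ) : mulC a b < 2 ^ 25 := by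
  have h0 := appV_lt a (col b 0)
  have h1 := appV_lt a (col b 1)
  have h2 := appV_lt a (col b 2)
  have h3 := appV_lt a (col b 3)
  have h4 := appV_lt a (col b 4)
  rw [mulC, force_eq, force_eq]
  omega

end CfsgLib.HeCent
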