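/-
The centraliser of `d` in the Held group as a group of packed matrices, and its involutions.
-/
import Cfsg.Agent.Lib.HeCent.Main
import Cfsg.Agent.Lib.HeCent.MatCode
import Cfsg.Agent.Lib.HeCent.TupleData
import Mathlib.GroupTheory.Sylow

set_option autoImplicit false
set_option maxRecDepth 100000

namespace CfsgLib.HeCent

open CfsgLib.CosetEnum

theorem el_append (w w' : List ℕ) : el (w ++ w') = el w' * el w := by
  simp [el, List.prod_append]

theorem el_nil : el [] = 1 := rfl

theorem el_three : el [3] = dd := rfl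

theorem conj_word (h w : List ℕ) : el (h.reverse ++ (w ++ h)) = el h * el w * (el h)⁻¹ := by
  rw [el_append, el_append, el_inv]

/-- The check that two words give the same element. -/
noncomputable def sameEl (w v : List ℕ) : Bool :=
  okWord w && okWord v && six.all fun b => Nat.beq (run1 w b) (run1 v b)

theorem el_eq {w v : List ℕ} (h : sameEl w v = true) : el w = el v := by
  simp only [sameEl, Bool.and_eq_true, List.all_eq_true] at h
  refine eq_of_six fun b hb => ?_
  rw [pt_el h.1.1 (six_lt b hb), pt_el h.1.2 (six_lt b hb)]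
  exact Nat.eq_of_beq_eq_true (h.2 b hb)

theorem el_ne {w v : List ℕ} (hw : okWord w = true) (hv : okWord v = true)
    (h : (six.all fun b => Nat.beq (run1 w b) (run1 v b)) = false) : el w ≠ el v := by
  intro e
  rw [List.all_eq_false] at h
  obtain ⟨b, hb, hne⟩ := h
  refine hne ?_
  rw [← pt_el hw (six_lt b hb), ← pt_el hv (six_lt b hb), e, Nat.beq_refl]

local notation "SL5" => Matrix.SpecialLinearGroup (Fin 5) (ZMod 2)

theorem sCode_sq : mulOK sCode sCode oneCode = true := by decide +kernel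

/-- The transvection. -/
noncomputable def sTr : SL5 := ⟨mat sCode, det_one_of_mul ((mat_mul sCode_sq).trans mat_one)⟩

/-- The isomorphism with the centraliser of the transvection. -/
noncomputable def psi : Cd ≃* Subgroup.centralizer ({sTr} : Set SL5) :=
  (model sTr mat_transvection).choose

/-- The matrix of an element of the centraliser. -/
noncomputable def M : Cd →* Matrix (Fin 5) (Fin 5) (ZMod 2) where
  toFun x := ((psi x : SL5) : Matrix (Fin 5) (Fin 5) (ZMod 2))
  map_one' := by simp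
  map_mul' x y := by simp

theorem M_injective : Function.Injective M := fun _ _ h =>
  psi.injective (Subtype.ext (Subtype.ext h))

theorem M_gen {g : ℕ} (hg : g < 8) : M ⟨el (gw.getD g []), (gen_spec hg).2.1⟩ = mat (gm.getD g 0) :=
  (model sTr mat_transvection).choose_spec.1 ⟨g, hg⟩ _

/-- The code of the product of two parts. -/
noncomputable def prodCode (i j : ℕ) : ℕ := mulC (qMat.getD i 0) (lMat.getD j 0)

theorem M_code (x : Cd) : ∃ i < 128, ∃ j < 168, M x = mat (prodCode i j) := by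
  obtain ⟨i, hi, j, hj, h⟩ := (model sTr mat_transvection).choose_spec.2.1 (psi x)
  refine ⟨i, hi, j, hj, ?_⟩
  rw [prodCode, ← mat_mulC]
  exact h

theorem exists_code {i j : ℕ} (hi : i < 128) (hj : j < 168) : ∃ x : Cd, M x = mat (prodCode i j) := by
  obtain ⟨x, hx⟩ := (model sTr mat_transvection).choose_spec.2.2.1 i hi j hj
  refine ⟨psi.symm x, ?_⟩
  show ((psi (psi.symm x) : SL5) : Matrix (Fin 5) (Fin 5) (ZMod 2)) = _
  rw [MulEquiv.apply_symm_apply, prodCode, ← mat_mulC]
  exact hx

theorem card_Cd : Nat.card Cd = 21504 := (model sTr mat_transvection).choose_spec.2.2.2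

theorem M_mul {x y : Cd} {a b : ℕ} (hx : M x = mat a) (hy : M y = mat b) : M (x * y) = mat (mulC a b) := by
  rw [map_mul, hx, hy, mat_mulC]

theorem M_one : M 1 = mat oneCode := (map_one M).trans mat_one.symm

/-- The word of a path in the generators. -/
def pathWord (p : List ℕ) : List ℕ := p.foldr (fun g w => w ++ gw.getD g []) []

/-- The code of a path in the generators. -/
noncomputable def pathCode (p : List ℕ) : ℕ := p.foldr (fun g c => mulC (gm.getD g 0) c) oneCode

theorem path_spec : ∀ p : List ℕ, (∀ g ∈ p, g < 8) →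
    ∃ h : el (pathWord p) ∈ Cd, M ⟨el (pathWord p), h⟩ = mat (pathCode p) := by
  intro p
  induction p with
  | nil => exact fun _ => ⟨one_mem _, M_one⟩
  | cons g t ih =>
    intro h
    have hg := h g List.mem_cons_self
    obtain ⟨ht, ht'⟩ := ih fun x hx => h x (List.mem_cons_of_mem _ hx)
    have e : el (pathWord (g :: t)) = el (gw.getD g []) * el (pathWord t) := el_append _ _
    refine ⟨e ▸ mul_mem (gen_spec hg).2.1 ht, ?_⟩
    rw [show (⟨el (pathWord (g :: t)), e ▸ mul_mem (gen_spec hg).2.1 ht⟩ : Cd) =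
      ⟨el (gw.getD g []), (gen_spec hg).2.1⟩ * ⟨el (pathWord t), ht⟩ from Subtype.ext e]
    exact M_mul (M_gen hg) ht'

theorem M_unique {x y : Cd} {a b : ℕ} (hx : M x = mat a) (hy : M y = mat b) (h : Nat.beq a b = true) : x = y :=
  M_injective (by rw [hx, hy, Nat.eq_of_beq_eq_true h])

theorem code_small {i j : ℕ} : prodCode i j < 2 ^ 25 := mulC_lt _ _

theorem oneCode_lt : oneCode < 2 ^ 25 := by norm_num [oneCode]

theorem sCode_lt : sCode < 2 ^ 25 := by norm_num [sCode]

/-- The check that an element conjugates a code to a code. -/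
noncomputable def conjCode (g src dst : ℕ) : Bool := Nat.beq (mulC g src) (mulC dst g)

theorem conj_code {x r y : Cd} {c a g : ℕ} (hx : M x = mat c) (hr : M r = mat a) (hy : M y = mat g)
    (h : conjCode g a c = true) : x = y * r * y⁻¹ := by
  rw [eq_mul_inv_iff_mul_eq]
  exact (M_unique (M_mul hy hr) (M_mul hx hy) h).symm

/-- The element is in a list. -/
def memb (c : ℕ) (L : List ℕ) : Bool := L.any fun d => Nat.beq c d

theorem memb_iff {c : ℕ} {L : List ℕ} : memb c L = true ↔ c ∈ L := by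
  simp only [memb, List.any_eq_true]
  constructor
  · rintro ⟨d, hd, e⟩
    rwa [Nat.eq_of_beq_eq_true e]
  · exact fun h => ⟨c, h, Nat.beq_refl c⟩

/-- The check that the involutions are listed. -/
noncomputable def invCover : Bool :=
  qMat.all fun q => lMat.all fun l => force (mulC q l) fun c =>
    !(Nat.beq (mulC c c) oneCode) || Nat.beq c oneCode || memb c invList

theorem invCover_ok : invCover = true := by decide +kernel

theorem mat_lengths : qMat.length = 128 ∧ lMat.length = 168 := by decide +kernel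

theorem M_inv {x : Cd} (h2 : x * x = 1) (h1 : x ≠ 1) : ∃ c ∈ invList, c < 2 ^ 25 ∧ M x = mat c := by
  obtain ⟨i, hi, j, hj, h⟩ := M_code x
  refine ⟨_, ?_, code_small, h⟩
  have hc := List.all_eq_true.mp (List.all_eq_true.mp invCover_ok (qMat.getD i 0)
    (getD_mem (mat_lengths.1.symm ▸ hi) 0)) (lMat.getD j 0) (getD_mem (mat_lengths.2.symm ▸ hj) 0)
  simp only [force_eq, Bool.or_eq_true] at hc
  rw [show mulC (qMat.getD i 0) (lMat.getD j 0) = prodCode i j from rfl] at hc
  rcases hc with (hc | hc) | hc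
  · have e := M_mul h h
    rw [h2, M_one] at e
    rw [← mat_injective oneCode_lt (mulC_lt _ _) e, Nat.beq_refl] at hc
    exact absurd hc (by decide)
  · exact absurd (M_unique h M_one hc) h1
  · exact memb_iff.mp hc

/-- The target of a class. -/
def tgt (k : ℕ) : ℕ := (clsData.getD k (0, 0, [], [])).2.1

/-- The matrix of a class. -/
def clsCode (k : ℕ) : ℕ := (clsData.getD k (0, 0, [], [])).1

/-- The check of a class. -/
noncomputable def clsOK (k : ℕ) : Bool :=
  (clsData.getD k (0, 0, [], [])).2.2.2.all (fun g => Nat.blt g 8) &&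
    Nat.beq (pathCode (clsData.getD k (0, 0, [], [])).2.2.2) (clsCode k) &&
    sameEl (pathWord (clsData.getD k (0, 0, [], [])).2.2.2)
      ((clsData.getD k (0, 0, [], [])).2.2.1.reverse ++ ([tgt k] ++ (clsData.getD k (0, 0, [], [])).2.2.1))

theorem cls_ok : ((List.range 8).all clsOK) = true := by decide +kernel

theorem exists_rep {k : ℕ} (hk : k < 8) :
    ∃ r : Cd, M r = mat (clsCode k) ∧ IsConj (el [tgt k]) (r : presHe.Grp) := by
  have h := List.all_eq_true.mp cls_ok k (List.mem_range.mpr hk)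
  simp only [clsOK, Bool.and_eq_true, List.all_eq_true, blt_iff] at h
  obtain ⟨⟨hp, hc⟩, hw⟩ := h
  obtain ⟨hm, hM⟩ := path_spec _ hp
  refine ⟨⟨_, hm⟩, by rw [hM, Nat.eq_of_beq_eq_true hc], isConj_iff.mpr ⟨el (clsData.getD k (0, 0, [], [])).2.2.1, ?_⟩⟩
  show _ = el (pathWord _)
  rw [el_eq hw, conj_word]

/-- The check of the class of an involution. -/
noncomputable def invOK (t : ℕ) : Bool :=
  force (invList.getD t 0) fun c =>
    match invCls.getD t (0, 0, 0) with
    | (k, i, j) => Nat.blt k 8 && Nat.blt i 128 && Nat.blt j 168 && conjCode (prodCode i j) (clsCode k) c &&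
      (if Nat.beq (tgt k) 0 then Nat.blt k 2 && memb c taList else Nat.beq (tgt k) 3 && memb c tbList)

theorem inv_ok : ((List.range invList.length).all invOK) = true := by decide +kernel

theorem inv_class {x : Cd} (h2 : x * x = 1) (h1 : x ≠ 1) :
    ∃ k < 8, ∃ r y : Cd, M r = mat (clsCode k) ∧ IsConj (el [tgt k]) (r : presHe.Grp) ∧ x = y * r * y⁻¹ ∧
      ∃ c, c < 2 ^ 25 ∧ M x = mat c ∧
        (tgt k = 0 ∧ k < 2 ∧ c ∈ taList ∨ tgt k = 3 ∧ c ∈ tbList) := by
  obtain ⟨c, hc, hlt, hM⟩ := M_inv h2 h1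
  obtain ⟨t, ht, rfl⟩ := List.getElem_of_mem hc
  have h := List.all_eq_true.mp inv_ok t (List.mem_range.mpr ht)
  simp only [invOK, force_eq] at h
  obtain ⟨k, i, j, e⟩ : ∃ k i j, invCls.getD t (0, 0, 0) = (k, i, j) := ⟨_, _, _, rfl⟩
  rw [e, List.getD_eq_getElem _ _ ht] at h
  simp only [Bool.and_eq_true, blt_iff] at h
  obtain ⟨⟨⟨⟨hk, hi⟩, hj⟩, hconj⟩, hcls⟩ := h
  obtain ⟨r, hr, hr'⟩ := exists_rep hk
  obtain ⟨y, hy⟩ := exists_code hi hj
  refine ⟨k, hk, r, y, hr, hr', conj_code hM hr hy hconj, _, hlt, hM, ?_⟩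
  split at hcls
  · next h0 =>
    simp only [Bool.and_eq_true, blt_iff] at hcls
    exact Or.inl ⟨Nat.eq_of_beq_eq_true h0, hcls.1, memb_iff.mp hcls.2⟩
  · simp only [Bool.and_eq_true] at hcls
    exact Or.inr ⟨Nat.eq_of_beq_eq_true hcls.1, memb_iff.mp hcls.2⟩

theorem five_dvd : 5 ∣ Nat.card (Subgroup.centralizer ({el [0]} : Set presHe.Grp)) := by
  have hmem : el [3, 2, 3, 2] ∈ Subgroup.centralizer ({el [0]} : Set presHe.Grp) := by
    rw [Subgroup.mem_centralizer_singleton_iff, ← el_append, ← el_append]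
    exact el_eq (by decide +kernel)
  set x : Subgroup.centralizer ({el [0]} : Set presHe.Grp) := ⟨_, hmem⟩
  have hne : x ≠ 1 := fun h => el_ne (w := [3, 2, 3, 2]) (v := []) (by decide) (by decide) (by decide +kernel)
    (congrArg Subtype.val h)
  have h5 : x ^ 5 = 1 := by
    refine Subtype.ext ?_
    show el [3, 2, 3, 2] ^ 5 = 1
    rw [pow_succ, pow_succ, pow_succ, pow_succ, pow_one, ← el_append, ← el_append, ← el_append, ← el_append]
    exact el_eq (v := []) (by decide +kernel)
  haveI : Fact (Nat.Prime 5) := ⟨by norm_num⟩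
  rw [← orderOf_eq_prime h5 hne]
  exact orderOf_dvd_natCard x

theorem not_conj : ¬ IsConj (el [0]) dd := by
  intro h
  obtain ⟨c, hc⟩ := isConj_iff.mp h
  have e : (Subgroup.centralizer ({el [0]} : Set presHe.Grp)).map (MulAut.conj c).toMonoidHom = Cd := by
    ext z
    simp only [Subgroup.mem_map_equiv, Subgroup.mem_centralizer_singleton_iff, mem_Cd, ← hc]
    rw [MulAut.conj_symm_apply]
    constructor
    · intro h'
      calc z * (c * el [0] * c⁻¹) = c * (c⁻¹ * z * c * el [0]) * c⁻¹ := by group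
        _ = c * (el [0] * (c⁻¹ * z * c)) * c⁻¹ := by rw [h']
        _ = _ := by group
    · intro h'
      calc c⁻¹ * z * c * el [0] = c⁻¹ * (z * (c * el [0] * c⁻¹)) * c := by group
        _ = c⁻¹ * ((c * el [0] * c⁻¹) * z) * c := by rw [h']
        _ = _ := by group
  have h5 := five_dvd
  have hcard := Subgroup.card_map_of_injective (K := Subgroup.centralizer ({el [0]} : Set presHe.Grp))
    (f := (MulAut.conj c).toMonoidHom) (MulAut.conj c).injective
  rw [e, card_Cd] at hcard
  rw [← hcard] at h5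
  norm_num at h5

theorem code_of_a {x : Cd} (h2 : x * x = 1) (h1 : x ≠ 1) (hc : IsConj (el [0]) (x : presHe.Grp)) :
    ∃ k < 2, ∃ r y : Cd, M r = mat (clsCode k) ∧ x = y * r * y⁻¹ ∧ ∃ c ∈ taList, c < 2 ^ 25 ∧ M x = mat c := by
  obtain ⟨k, _, r, y, hr, hr', hxy, c, hlt, hM, h⟩ := inv_class h2 h1
  rcases h with ⟨-, hk2, hmem⟩ | ⟨h3, -⟩
  · exact ⟨k, hk2, r, y, hr, hxy, c, hmem, hlt, hM⟩
  · rw [h3] at hr'
    refine absurd (hc.trans ((isConj_iff.mpr ⟨(y : presHe.Grp), ?_⟩ : IsConj (r : presHe.Grp) (x : presHe.Grp)).symm.trans hr'.symm)) not_conj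
    rw [hxy]; rfl

theorem code_of_d {x : Cd} (h2 : x * x = 1) (h1 : x ≠ 1) (hc : IsConj dd (x : presHe.Grp)) :
    ∃ c ∈ tbList, c < 2 ^ 25 ∧ M x = mat c := by
  obtain ⟨k, _, r, y, _, hr', hxy, c, hlt, hM, h⟩ := inv_class h2 h1
  rcases h with ⟨h0, -, -⟩ | ⟨-, hmem⟩
  · rw [h0] at hr'
    have hrx : IsConj (r : presHe.Grp) (x : presHe.Grp) := isConj_iff.mpr ⟨(y : presHe.Grp), by rw [hxy]; rfl⟩
    exact absurd ((hr'.trans hrx).trans hc.symm) not_conj
  · exact ⟨c, hmem, hlt, hM⟩

/-- An involution of the group is conjugate to `a` or to `d`. -/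
theorem classes {z : presHe.Grp} (h2 : z * z = 1) (h1 : z ≠ 1) : IsConj (el [0]) z ∨ IsConj dd z := by
  haveI : Fact (Nat.Prime 2) := ⟨Nat.prime_two⟩
  have hf1 : (4030387200 : ℕ).factorization 2 = 10 := by
    rw [show (4030387200 : ℕ) = 2 ^ 10 * 3935925 by norm_num, Nat.factorization_mul (by norm_num) (by norm_num)]
    rw [Finsupp.add_apply, Nat.prime_two.factorization_pow, Finsupp.single_eq_same,
      Nat.factorization_eq_zero_of_not_dvd (by norm_num)]
  have hf2 : (21504 : ℕ).factorization 2 = 10 := by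
    rw [show (21504 : ℕ) = 2 ^ 10 * 21 by norm_num, Nat.factorization_mul (by norm_num) (by norm_num)]
    rw [Finsupp.add_apply, Nat.prime_two.factorization_pow, Finsupp.single_eq_same,
      Nat.factorization_eq_zero_of_not_dvd (by norm_num)]
  obtain ⟨S⟩ := (inferInstance : Nonempty (Sylow 2 Cd))
  have hS : Nat.card ((S : Subgroup Cd).map Cd.subtype) = 2 ^ (Nat.card presHe.Grp).factorization 2 := by
    rw [Subgroup.card_map_of_injective Cd.subtype_injective, S.card_eq_multiplicity, card_Cd, card_grp, hf1, hf2]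
  let S' : Sylow 2 presHe.Grp := Sylow.ofCard _ hS
  have hz : IsPGroup 2 (Subgroup.zpowers z) := by
    refine IsPGroup.of_card (n := 1) ?_
    rw [Nat.card_zpowers, pow_one]
    exact orderOf_eq_prime (by rw [pow_two, h2]) h1
  obtain ⟨T, hT⟩ := hz.exists_le_sylow
  obtain ⟨g, hg⟩ := MulAction.exists_smul_eq presHe.Grp T S'
  have hmem : g * z * g⁻¹ ∈ (S' : Subgroup presHe.Grp) := by
    rw [← hg, Sylow.smul_def, Sylow.pointwise_smul_def, Subgroup.mem_pointwise_smul_iff_inv_smul_mem]
    simpa [MulAut.smul_def, mul_assoc] using hT (Subgroup.mem_zpowers z)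
  obtain ⟨x, -, hx⟩ := (show g * z * g⁻¹ ∈ (S : Subgroup Cd).map Cd.subtype from hmem)
  have hconj : IsConj (x : presHe.Grp) z := (isConj_iff.mpr ⟨g, hx.symm⟩ : IsConj z (x : presHe.Grp)).symm
  have hx2 : x * x = 1 := by
    refine Subtype.ext ?_
    show (x : presHe.Grp) * x = 1
    rw [show (x : presHe.Grp) = g * z * g⁻¹ from hx]
    calc g * z * g⁻¹ * (g * z * g⁻¹) = g * (z * z) * g⁻¹ := by group
      _ = 1 := by rw [h2]; group
  have hx1 : x ≠ 1 := by
    intro h
    have : g * z * g⁻¹ = 1 := hx.symm.trans (congrArg Subtype.val h)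
    exact h1 (conj_eq_one_iff.mp this)
  obtain ⟨k, _, r, y, _, hr', hxy, _, _, _, h⟩ := inv_class hx2 hx1
  have hrx : IsConj (r : presHe.Grp) (x : presHe.Grp) := isConj_iff.mpr ⟨(y : presHe.Grp), by rw [hxy]; rfl⟩
  rcases h with ⟨h0, -⟩ | ⟨h3, -⟩
  · exact Or.inl (h0 ▸ (hr'.trans hrx).trans hconj)
  · exact Or.inr (el_three ▸ h3 ▸ (hr'.trans hrx).trans hconj)

end CfsgLib.HeCent
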