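/-
The centraliser of the generators `a` and `b` of the Held group.
-/
import Cfsg.Agent.Lib.HeCent.Action
import Cfsg.Agent.Lib.HeCent.PairData

set_option autoImplicit false
set_option maxRecDepth 100000

namespace CfsgLib.HeCent

open CfsgLib.CosetEnum

/-- The centraliser of `a` and `b`. -/
noncomputable def Cab : Subgroup presHe.Grp := Subgroup.centralizer {el [0], el [1]}

theorem mem_Cab {g : presHe.Grp} : g ∈ Cab ↔ g * el [0] = el [0] * g ∧ g * el [1] = el [1] * g := by
  simp only [Cab, Subgroup.mem_centralizer_iff, Set.mem_insert_iff, Set.mem_singleton_iff]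
  constructor
  · exact fun h => ⟨(h _ (Or.inl rfl)).symm, (h _ (Or.inr rfl)).symm⟩
  · rintro ⟨h0, h1⟩ x (rfl | rfl)
    exacts [h0.symm, h1.symm]

theorem pt_comm {g : presHe.Grp} {x : ℕ} (hx : x < 7) (h : g * el [x] = el [x] * g) {q : ℕ}
    (hq : q < He2058.cert.T.n) : run1 [x] (pt g q) = pt g (run1 [x] q) := by
  have hw : okWord [x] = true := by simp [okWord, hx]
  rw [← pt_el hw (pt_lt g hq), ← pt_mul _ _ hq, ← h, pt_mul _ _ hq, pt_el hw hq]

theorem pt_inj {g : presHe.Grp} {p q : ℕ} (hp : p < He2058.cert.T.n) (hq : q < He2058.cert.T.n)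
    (h : pt g p = pt g q) : p = q := by
  rw [← pt_one p, ← pt_one q, ← inv_mul_cancel g, pt_mul _ _ hp, pt_mul _ _ hq, h]

theorem lab_rel {u u' : List ℕ} (hu : okWord u = true) (hu' : okWord u' = true) {p : ℕ}
    (hp : p < He2058.cert.T.n) {g : presHe.Grp} (h0 : run1 u p = 0) (h0' : run1 u' (pt g p) = 0) {q : ℕ}
    (hq : q < He2058.cert.T.n) : lab (run1 u' (pt g q)) = lab (run1 u q) := by
  have hn : (0 : ℕ) < He2058.cert.T.n := He2058.cert.hn
  set c := el u' * g * (el u)⁻¹ with hc
  have hua : pt (el u) p = 0 := (pt_el hu hp).trans h0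
  have hinv0 : pt (el u)⁻¹ 0 = p := by
    rw [← hua, ← pt_mul _ _ hp, inv_mul_cancel, pt_one]
  have hfix : π c ⟨0, hn⟩ = ⟨0, hn⟩ := by
    refine Fin.ext ((pt_val c ⟨0, hn⟩).symm.trans ?_)
    show pt c 0 = 0
    rw [hc, pt_mul _ _ hn, hinv0, pt_mul _ _ hp, pt_el hu' (pt_lt g hp), h0']
  have hsub := He2058.cert.mem_sub_of_fix He2058.hlt hid He2058.hhw hfix
  have hl := He2058.cert.lab_invariant He2058.hlt hid He2058.hhw He2058.orb He2058.roots He2058.hwR rfl
    He2058.orbs c hsub ⟨pt (el u) q, pt_lt (el u) hq⟩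
  rw [← pt_val] at hl
  have e : pt c (pt (el u) q) = pt (el u') (pt g q) := by
    rw [hc, ← pt_mul _ _ hq, inv_mul_cancel_right, pt_mul _ _ hq]
  rw [← pt_el hu hq, ← pt_el hu' (pt_lt g hq), ← e]
  exact hl

/-- A fixed point property. -/
noncomputable def fixBit (x q : ℕ) : Bool := Nat.beq (run1 [x] q) q

theorem fixBit_inv {g : presHe.Grp} {x : ℕ} (hx : x < 7) (h : g * el [x] = el [x] * g) {q : ℕ}
    (hq : q < He2058.cert.T.n) : fixBit x (pt g q) = fixBit x q := by
  have hq' : run1 [x] q < He2058.cert.T.n := by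
    rw [← pt_el (by simp [okWord, hx]) hq]
    exact pt_lt _ hq
  unfold fixBit
  rw [pt_comm hx h hq, Bool.eq_iff_iff]
  constructor
  · intro e
    rw [pt_inj hq' hq (Nat.eq_of_beq_eq_true e)]
    exact Nat.beq_refl q
  · intro e
    rw [Nat.eq_of_beq_eq_true e]
    exact Nat.beq_refl _

/-- The invariant of a point `q` compared with that of `b`, from the first `k` points. -/
noncomputable def abEq (k q b : ℕ) : Bool :=
  (fixBit 0 q == fixBit 0 b) && (fixBit 1 q == fixBit 1 b) &&
    (abZero.take k).all fun u => Nat.beq (lab (run1 u q)) (lab (run1 u b)) &&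
      Nat.beq (lab (run1 u (run1 [0] q))) (lab (run1 u (run1 [0] b))) &&
      Nat.beq (lab (run1 u (run1 [1] q))) (lab (run1 u (run1 [1] b)))

/-- The possible images. -/
noncomputable def abCands (k b : ℕ) : List ℕ := (List.range 2058).filter fun q => abEq k q b

theorem abZero_ok : ((List.range 6).all fun i => okWord (abZero.getD i []) && Nat.blt (abPts.getD i 0) 2058 &&
    Nat.beq (run1 (abZero.getD i []) (abPts.getD i 0)) 0) = true := by decide +kernel

theorem abEq_inv {k : ℕ} (hk : k ≤ 6) {g : presHe.Grp} (hg : g ∈ Cab)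
    (hfix : ∀ a ∈ abPts.take k, pt g a = a) {b : ℕ} (hb : b < He2058.cert.T.n) :
    abEq k (pt g b) b = true := by
  obtain ⟨h0, h1⟩ := mem_Cab.mp hg
  have hz0 : run1 [0] b < He2058.cert.T.n := by rw [← pt_el rfl hb]; exact pt_lt _ hb
  have hz1 : run1 [1] b < He2058.cert.T.n := by rw [← pt_el rfl hb]; exact pt_lt _ hb
  simp only [abEq, Bool.and_eq_true, List.all_eq_true, beq_iff_eq]
  refine ⟨⟨fixBit_inv (by norm_num) h0 hb, fixBit_inv (by norm_num) h1 hb⟩, fun u hu => ?_⟩
  obtain ⟨i, hi, rfl⟩ := List.mem_iff_getElem.mp hu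
  rw [List.length_take] at hi
  have hik : i < k := lt_of_lt_of_le hi (min_le_left _ _)
  have hi6 : i < 6 := lt_of_lt_of_le hi (min_le_right _ _)
  have e : (abZero.take k)[i]'(by rw [List.length_take]; exact hi) = abZero.getD i [] := by
    rw [List.getElem_take, List.getD_eq_getElem _ _ (show i < abZero.length from hi6)]
  have h := List.all_eq_true.mp abZero_ok i (List.mem_range.mpr hi6)
  simp only [Bool.and_eq_true] at h
  obtain ⟨⟨hu', ha⟩, hz⟩ := h
  have hmem : abPts.getD i 0 ∈ abPts.take k := by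
    rw [List.getD_eq_getElem _ _ (show i < abPts.length from hi6)]
    exact List.mem_take_iff_getElem.mpr ⟨i, by rw [show abPts.length = 6 from rfl]; omega, rfl⟩
  have hlab : ∀ {q : ℕ}, q < He2058.cert.T.n →
      lab (run1 (abZero.getD i []) (pt g q)) = lab (run1 (abZero.getD i []) q) := fun hq =>
    lab_rel hu' hu' (blt_iff.mp ha) (Nat.eq_of_beq_eq_true hz)
      (by rw [hfix _ hmem]; exact Nat.eq_of_beq_eq_true hz) hq
  rw [e, pt_comm (by norm_num) h0 hb, pt_comm (by norm_num) h1 hb, hlab hb, hlab hz0, hlab hz1]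
  exact ⟨⟨Nat.beq_refl _, Nat.beq_refl _⟩, Nat.beq_refl _⟩

theorem pt_mem_abCands {k : ℕ} (hk : k ≤ 6) {g : presHe.Grp} (hg : g ∈ Cab)
    (hfix : ∀ a ∈ abPts.take k, pt g a = a) {b : ℕ} (hb : b < He2058.cert.T.n) :
    pt g b ∈ abCands k b :=
  List.mem_filter.mpr ⟨List.mem_range.mpr (pt_lt g hb), abEq_inv hk hg hfix hb⟩

theorem abCand0_ok : abCands 1 1289 = abCand0 := by decide +kernel
theorem abCand1_ok : abCands 2 366 = abCand1 := by decide +kernel
theorem abCand2_ok : abCands 3 117 = abCand2 := by decide +kernel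
theorem abCand3_ok : abCands 4 385 = abCand3 := by decide +kernel
theorem abCand4_ok : abCands 5 5 = abCand4 := by decide +kernel
theorem abCand5_ok : six.map (abCands 6) = [abCand5, abCand6, abCand7, abCand8, abCand9, abCand10] := by
  decide +kernel

theorem abPts_lt : ∀ a ∈ abPts, a < He2058.cert.T.n :=
  fun a ha => (show ∀ a ∈ abPts, a < 2058 by decide) a ha

theorem eq_one_of_three {g : presHe.Grp} (hg : g ∈ Cab) (hfix : ∀ a ∈ abPts.take 3, pt g a = a) : g = 1 := by
  have step : ∀ k b L, k < 6 → abPts.take (k + 1) = abPts.take k ++ [b] → abCands k b = L → L = [b] →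
      (∀ a ∈ abPts.take k, pt g a = a) → ∀ a ∈ abPts.take (k + 1), pt g a = a := by
    intro k b L hk htake hL hLb hf a ha
    rw [htake, List.mem_append] at ha
    rcases ha with ha | ha
    · exact hf a ha
    · have hb : b ∈ abPts.take (k + 1) := by rw [htake]; simp
      rw [List.mem_singleton.mp ha]
      exact List.mem_singleton.mp (hLb ▸ hL ▸ pt_mem_abCands hk.le hg hf (abPts_lt b (List.mem_of_mem_take hb)))
  have h6 := step 5 5 _ (by norm_num) rfl abCand4_ok rfl
    (step 4 385 _ (by norm_num) rfl abCand3_ok rfl (step 3 117 _ (by norm_num) rfl abCand2_ok rfl hfix))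
  refine eq_one_of_six fun b hb => ?_
  have hm := pt_mem_abCands le_rfl hg h6 (six_lt b hb)
  have hmap := abCand5_ok
  simp only [six, List.map_cons, List.map_nil, List.cons.injEq, and_true] at hmap
  obtain ⟨e0, e1, e2, e3, e4, e5⟩ := hmap
  fin_cases hb
  · rw [e0] at hm; exact List.mem_singleton.mp hm
  · rw [e1] at hm; exact List.mem_singleton.mp hm
  · rw [e2] at hm; exact List.mem_singleton.mp hm
  · rw [e3] at hm; exact List.mem_singleton.mp hm
  · rw [e4] at hm; exact List.mem_singleton.mp hm
  · rw [e5] at hm; exact List.mem_singleton.mp hm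

/-- The elements fixing the first `k` points. -/
noncomputable def abStage (k : ℕ) : Subgroup presHe.Grp :=
  Cab ⊓ He2058.cert.fixSub He2058.hlt (abPts.take k)

theorem mem_abStage {k : ℕ} {g : presHe.Grp} (h : g ∈ abStage k) {a : ℕ} (ha : a ∈ abPts.take k) : pt g a = a :=
  (pt_val g ⟨a, abPts_lt a (List.mem_of_mem_take ha)⟩).trans (congrArg Fin.val (h.2 ⟨a, _⟩ ha))

theorem abStage_step (k b : ℕ) (hb : b < He2058.cert.T.n)
    (htake : abPts.take (k + 1) = abPts.take k ++ [b]) (L : List ℕ) (hL : ∀ g ∈ abStage k, pt g b ∈ L) :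
    Nat.card (abStage k) ≤ L.length * Nat.card (abStage (k + 1)) := by
  classical
  set S := abStage k
  let act : MulAction S (Fin He2058.cert.T.n) := MulAction.compHom _ (π.comp S.subtype)
  set p : Fin He2058.cert.T.n := ⟨b, hb⟩
  have horb : Nat.card (MulAction.orbit S p) ≤ L.length := by
    have h1 : ∀ x : MulAction.orbit S p, ((x : Fin He2058.cert.T.n) : ℕ) ∈ L.toFinset := by
      rintro ⟨_, ⟨g, hg⟩, rfl⟩
      rw [List.mem_toFinset]
      show (π g p : ℕ) ∈ _
      rw [← pt_val]
      exact hL g hg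
    calc Nat.card (MulAction.orbit S p) ≤ Nat.card {n // n ∈ L.toFinset} :=
          Nat.card_le_card_of_injective (fun x => ⟨_, h1 x⟩) fun x y e =>
            Subtype.ext (Fin.ext (congrArg Subtype.val e))
      _ ≤ L.length := by
          rw [Nat.card_eq_fintype_card, Fintype.card_coe]
          exact List.toFinset_card_le L
  have hstab : (MulAction.stabilizer S p).map S.subtype = abStage (k + 1) := by
    ext g
    rw [abStage, htake]
    constructor
    · rintro ⟨⟨g, hg⟩, hgb, rfl⟩
      refine ⟨hg.1, fun d hd => ?_⟩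
      rcases List.mem_append.mp hd with hd | hd
      · exact hg.2 d hd
      · have : d = p := Fin.ext (List.mem_singleton.mp hd)
        subst this
        exact hgb
    · intro hg
      exact ⟨⟨g, hg.1, fun d hd => hg.2 d (List.mem_append_left _ hd)⟩,
        hg.2 p (List.mem_append_right _ (List.mem_singleton_self _)), rfl⟩
  have hc := (MulAction.stabilizer S p).card_mul_index
  rw [MulAction.index_stabilizer, ← Nat.card_coe_set_eq] at hc
  rw [← hstab, Subgroup.card_map_of_injective S.subtype_injective, ← hc, mul_comm]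
  exact Nat.mul_le_mul_right _ horb

/-- The number of the fixed points in a given relation to the fixed point `i`. -/
noncomputable def relCount (i : ℕ) : ℕ :=
  (fixPts.filter fun r => Nat.beq (lab (run1 (fixZero.getD i []) r)) 4).length

/-- The checks of the fixed points. -/
noncomputable def fixOK : Bool :=
  (((List.range 2058).filter fun q => fixBit 0 q && fixBit 1 q) == fixPts) &&
    ((List.range 14).all fun i => okWord (fixZero.getD i []) &&
      Nat.beq (run1 (fixZero.getD i []) (fixPts.getD i 0)) 0) &&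
    (((List.range 14).filter fun i => Nat.beq (relCount i) (relCount 0)).map (fun i => fixPts.getD i 0) == abFirst)

theorem fix_ok : fixOK = true := by decide +kernel

theorem first_point {g : presHe.Grp} (hg : g ∈ Cab) : pt g 3 ∈ abFirst := by
  obtain ⟨h0, h1⟩ := mem_Cab.mp hg
  have h := fix_ok
  simp only [fixOK, Bool.and_eq_true, beq_iff_eq, List.all_eq_true, List.mem_range] at h
  obtain ⟨⟨hfix, hzero⟩, hfirst⟩ := h
  have hlt : ∀ p ∈ fixPts, p < He2058.cert.T.n := by
    intro p hp
    rw [← hfix] at hp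
    exact List.mem_range.mp (List.mem_filter.mp hp).1
  have hmem : ∀ p ∈ fixPts, pt g p ∈ fixPts := by
    intro p hp
    have hp' := hlt p hp
    rw [← hfix] at hp ⊢
    refine List.mem_filter.mpr ⟨List.mem_range.mpr (pt_lt g hp'), ?_⟩
    rw [fixBit_inv (by norm_num) h0 hp', fixBit_inv (by norm_num) h1 hp']
    exact (List.mem_filter.mp hp).2
  have hnd : fixPts.Nodup := by decide
  have hperm : (fixPts.map (pt g)).Perm fixPts := by
    refine ((hnd.map_on fun p hp q hq e => pt_inj (hlt p hp) (hlt q hq) e).subperm ?_).perm_of_length_le (by simp)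
    intro x hx
    obtain ⟨p, hp, rfl⟩ := List.mem_map.mp hx
    exact hmem p hp
  obtain ⟨i, hi, e⟩ := List.mem_iff_getElem.mp (hmem 3 (by decide))
  have hi14 : i < 14 := hi
  have e' : fixPts.getD i 0 = pt g 3 := by rw [List.getD_eq_getElem _ _ hi, e]
  have hcount : relCount i = relCount 0 := by
    obtain ⟨hu, hz⟩ := hzero i hi14
    obtain ⟨hu0, hz0⟩ := hzero 0 (by norm_num)
    rw [relCount, relCount, ← List.countP_eq_length_filter, ← List.countP_eq_length_filter,
      ← hperm.countP_eq, List.countP_map]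
    refine List.countP_congr fun r hr => ?_
    simp only [Function.comp_apply]
    rw [lab_rel hu0 hu (hlt 3 (by decide)) (Nat.eq_of_beq_eq_true hz0)
      (by rw [← e']; exact Nat.eq_of_beq_eq_true hz) (hlt r hr)]
  rw [← hfirst, ← e']
  exact List.mem_map.mpr ⟨i, List.mem_filter.mpr ⟨List.mem_range.mpr hi14, by rw [hcount]; exact Nat.beq_refl _⟩, rfl⟩

theorem card_Cab_le : Nat.card Cab ≤ 336 := by
  have h3 : Nat.card (abStage 3) ≤ 1 := by
    rw [Subgroup.card_le_one_iff_eq_bot, Subgroup.eq_bot_iff_forall]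
    exact fun g hg => eq_one_of_three hg.1 fun a ha => mem_abStage hg ha
  have h2 := abStage_step 2 366 (show 366 < 2058 by decide) rfl abCand1 fun g hg =>
    abCand1_ok ▸ pt_mem_abCands (by norm_num) hg.1 (fun a ha => mem_abStage hg ha) (show 366 < 2058 by decide)
  have h1 := abStage_step 1 1289 (show 1289 < 2058 by decide) rfl abCand0 fun g hg =>
    abCand0_ok ▸ pt_mem_abCands (by norm_num) hg.1 (fun a ha => mem_abStage hg ha) (show 1289 < 2058 by decide)
  have h0 := abStage_step 0 3 (show 3 < 2058 by decide) rfl abFirst fun g hg => first_point hg.1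
  have e : abStage 0 = Cab := inf_eq_left.mpr fun g _ d hd => absurd hd (by simp)
  rw [e, show abFirst.length = 7 from rfl] at h0
  rw [show abCand0.length = 12 from rfl] at h1
  rw [show abCand1.length = 4 from rfl] at h2
  norm_num at h0 h1 h2 h3 ⊢
  omega

/-- The checks of a listed element. -/
noncomputable def abElOK (i : ℕ) : Bool :=
  force i fun i => okWord (abWord.getD i []) &&
    (six.all fun b => Nat.beq (run1 [0] (run1 (abWord.getD i []) b)) (run1 (abWord.getD i []) (run1 [0] b)) &&
      Nat.beq (run1 [1] (run1 (abWord.getD i []) b)) (run1 (abWord.getD i []) (run1 [1] b))) &&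
    (abPts.map (run1 (abWord.getD i [])) == abKey.getD i [])

theorem abEl_ok : ((List.range 336).all abElOK) = true := by decide +kernel

theorem abKey_nodup : abKey.Nodup := by decide +kernel

theorem abEl_spec {i : ℕ} (hi : i < 336) :
    okWord (abWord.getD i []) = true ∧ el (abWord.getD i []) ∈ Cab ∧
      abPts.map (pt (el (abWord.getD i []))) = abKey.getD i [] := by
  have h := List.all_eq_true.mp abEl_ok i (List.mem_range.mpr hi)
  simp only [abElOK, force_eq, Bool.and_eq_true, List.all_eq_true, beq_iff_eq] at h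
  obtain ⟨⟨hw, hc⟩, hkey⟩ := h
  have comm : ∀ x, x < 7 → (∀ b ∈ six, run1 [x] (run1 (abWord.getD i []) b) = run1 (abWord.getD i []) (run1 [x] b)) →
      el (abWord.getD i []) * el [x] = el [x] * el (abWord.getD i []) := by
    intro x hx hb
    have hxw : okWord [x] = true := by simp [okWord, hx]
    refine eq_of_six fun b hb' => ?_
    have hl := six_lt b hb'
    have h1 := pt_lt (el [x]) hl
    have h2 := pt_lt (el (abWord.getD i [])) hl
    rw [pt_el hxw hl] at h1
    rw [pt_el hw hl] at h2
    rw [pt_mul _ _ hl, pt_mul _ _ hl, pt_el hxw hl, pt_el hw h1, pt_el hw hl, pt_el hxw h2, hb b hb']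
  refine ⟨hw, mem_Cab.mpr ⟨comm 0 (by norm_num) fun b hb => Nat.eq_of_beq_eq_true (hc b hb).1,
    comm 1 (by norm_num) fun b hb => Nat.eq_of_beq_eq_true (hc b hb).2⟩, ?_⟩
  rw [← hkey]
  exact List.map_congr_left fun a ha => pt_el hw (abPts_lt a ha)

/-- The centraliser of `a` and `b` consists of the listed elements. -/
theorem Cab_list {g : presHe.Grp} (hg : g ∈ Cab) : ∃ i < 336, el (abWord.getD i []) = g := by
  let F : Fin 336 → Cab := fun i => ⟨el (abWord.getD i []), (abEl_spec i.2).2.1⟩
  have hF : Function.Injective F := by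
    intro i j e
    have e' : el (abWord.getD i []) = el (abWord.getD j []) := congrArg Subtype.val e
    have hk : abKey.getD i [] = abKey.getD j [] := by
      rw [← (abEl_spec i.2).2.2, ← (abEl_spec j.2).2.2, e']
    have hl : abKey.length = 336 := by decide +kernel
    rw [List.getD_eq_getElem _ _ (show i.1 < abKey.length by rw [hl]; exact i.2), List.getD_eq_getElem _ _ (show j.1 < abKey.length by rw [hl]; exact j.2)] at hk
    exact Fin.ext (abKey_nodup.getElem_inj_iff.mp hk)
  have hb := (Nat.bijective_iff_injective_and_card F).mpr ⟨hF, le_antisymm (Nat.card_le_card_of_injective F hF)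
    (by simpa using card_Cab_le)⟩
  obtain ⟨i, hi⟩ := hb.2 ⟨g, hg⟩
  exact ⟨i, i.2, congrArg Subtype.val hi⟩

end CfsgLib.HeCent
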