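/-
Configurations in the centraliser of `d`: there are two classes of them.
-/
import Cfsg.Agent.Lib.HeCent.Model

set_option autoImplicit false
set_option maxRecDepth 100000

namespace CfsgLib.HeCent

open CfsgLib.CosetEnum

/-- The word of a standard element. -/
def tW (i : ℕ) : List ℕ := pathWord (tupPath.getD i [])

/-- The code of a standard element. -/
def tC (i : ℕ) : ℕ := (tupA ++ tupB).getD i 0

/-- The check of a standard element. -/
noncomputable def tOK (i : ℕ) : Bool :=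
  (tupPath.getD i []).all (fun g => Nat.blt g 8) && Nat.beq (pathCode (tupPath.getD i [])) (tC i)

theorem t_ok : ((List.range 7).all tOK) = true := by decide +kernel

theorem t_spec (i : Fin 7) : ∃ h : el (tW i) ∈ Cd, M ⟨el (tW i), h⟩ = mat (tC i) := by
  have h := List.all_eq_true.mp t_ok i.1 (List.mem_range.mpr i.2)
  simp only [tOK, Bool.and_eq_true, List.all_eq_true, blt_iff] at h
  obtain ⟨hm, hM⟩ := path_spec _ h.1
  exact ⟨hm, hM.trans (congrArg mat (Nat.eq_of_beq_eq_true h.2))⟩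

/-- A standard element. -/
noncomputable def T (i : Fin 7) : Cd := ⟨el (tW i), (t_spec i).1⟩

theorem M_T (i : Fin 7) : M (T i) = mat (tC i) := (t_spec i).2

theorem tC_lt (i : Fin 7) : tC i < 2 ^ 25 := by revert i; decide

/-- The element `d` of its centraliser. -/
noncomputable def ddc : Cd := ⟨dd, mem_Cd.mpr rfl⟩

theorem ddc_eq : ddc = T 3 * T 4 * (T 3 * T 4) := by
  refine Subtype.ext ?_
  show dd = el (tW 3) * el (tW 4) * (el (tW 3) * el (tW 4))
  rw [← el_append, ← el_append, ← el_three]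
  exact el_eq (by decide +kernel)

theorem M_ddc : M ddc = mat sCode := by
  rw [ddc_eq, M_mul (M_mul (M_T 3) (M_T 4)) (M_mul (M_T 3) (M_T 4))]
  exact congrArg mat (Nat.eq_of_beq_eq_true (by decide +kernel))

/-- The square of a code. -/
noncomputable def sq (c : ℕ) : ℕ := force c fun c => mulC c c

/-- The cube of a code. -/
noncomputable def cube (c : ℕ) : ℕ := force c fun c => mulC (mulC c c) c

/-- Two codes commute. -/
noncomputable def coC (a b : ℕ) : Bool := Nat.beq (mulC a b) (mulC b a)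

/-- The relations of the first three members. -/
noncomputable def tripCond (a b c : ℕ) : Bool :=
  !(Nat.beq c b) && Nat.beq (cube (mulC b c)) oneCode && Nat.beq (cube (mulC (mulC a b) c)) sCode

/-- The certificate of a triple. -/
noncomputable def tripCert (n b c : ℕ) : Bool :=
  tripleTab.any fun p => match p with
    | (n', b', c', k, i, j) => Nat.beq n' n && Nat.beq b' b && Nat.beq c' c &&
      (Nat.blt k 3 && Nat.blt i 128 && Nat.blt j 168 &&
        match tripleReps.getD k (0, 0, 0, 0) with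
        | (nk, a', b'', c'') => Nat.beq nk n && Nat.beq a' (clsCode n) && conjCode (prodCode i j) (clsCode n) (clsCode n) &&
          conjCode (prodCode i j) b'' b && conjCode (prodCode i j) c'' c)

/-- All triples with a given first member are certified. -/
noncomputable def tripCover (n : ℕ) (L : List ℕ) : Bool :=
  force (clsCode n) fun a =>
    ((taList.filter fun c => coC a c) == L) &&
    taList.all fun b => coC a b || !(Nat.beq (sq (sq (mulC a b))) oneCode) ||
      L.all fun c => !(tripCond a b c) || tripCert n b c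

theorem trip_ok0 : tripCover 0 taC0 = true := by decide +kernel

theorem trip_ok1 : tripCover 1 taC1 = true := by decide +kernel

/-- The candidates for the last two members. -/
noncomputable def fgOK (k : ℕ) : Bool :=
  match tripleReps.getD k (0, 0, 0, 0) with
  | (_, a, b, c) => (tbList.filter fun x => coC a x && coC b x && coC c x) == fgLists.getD k []

theorem fg_ok : ((List.range 3).all fgOK) = true := by decide +kernel

/-- The certificate of a pair. -/
noncomputable def pairCert (f g : ℕ) : Bool :=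
  pairTab.any fun p => match p with
    | (f', g', r, i, j) => Nat.beq f' f && Nat.beq g' g &&
      (Nat.blt i 128 && Nat.blt j 168 && Nat.blt r 2 && force (prodCode i j) fun y =>
        conjCode y (tC 0) (tC 0) && conjCode y (tC 1) (tC 1) && conjCode y (tC 2) (tC 2) &&
          conjCode y (tC (3 + 2 * r)) f && conjCode y (tC (4 + 2 * r)) g)

/-- All pairs for a triple are certified. -/
noncomputable def pairCover (k : ℕ) : Bool :=
  (fgLists.getD k []).all fun f => (fgLists.getD k []).all fun g =>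
    !(Nat.beq (sq (mulC f g)) sCode) || (Nat.beq k 0 && pairCert f g)

theorem pair_ok : ((List.range 3).all pairCover) = true := by decide +kernel

theorem rep0 : tripleReps.getD 0 (0, 0, 0, 0) = (0, tC 0, tC 1, tC 2) := by decide

/-- A configuration in the centraliser. -/
structure IsTup (x0 x1 x2 x5 x6 : Cd) : Prop where
  s0 : x0 * x0 = 1
  n0 : x0 ≠ 1
  k0 : IsConj (el [0]) (x0 : presHe.Grp)
  s1 : x1 * x1 = 1
  n1 : x1 ≠ 1
  k1 : IsConj (el [0]) (x1 : presHe.Grp)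
  s2 : x2 * x2 = 1
  n2 : x2 ≠ 1
  k2 : IsConj (el [0]) (x2 : presHe.Grp)
  s5 : x5 * x5 = 1
  n5 : x5 ≠ 1
  k5 : IsConj dd (x5 : presHe.Grp)
  s6 : x6 * x6 = 1
  n6 : x6 ≠ 1
  k6 : IsConj dd (x6 : presHe.Grp)
  r01 : x0 * x1 * (x0 * x1) * (x0 * x1 * (x0 * x1)) = 1
  nc01 : x0 * x1 ≠ x1 * x0
  r02 : x0 * x2 = x2 * x0
  ne12 : x2 ≠ x1
  r12 : x1 * x2 * (x1 * x2) * (x1 * x2) = 1
  r012 : x0 * x1 * x2 * (x0 * x1 * x2) * (x0 * x1 * x2) = ddc
  r05 : x0 * x5 = x5 * x0
  r06 : x0 * x6 = x6 * x0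
  r15 : x1 * x5 = x5 * x1
  r16 : x1 * x6 = x6 * x1
  r25 : x2 * x5 = x5 * x2
  r26 : x2 * x6 = x6 * x2
  r56 : x5 * x6 * (x5 * x6) = ddc

/-- Conjugation inside the centraliser. -/
noncomputable abbrev cnj (y : Cd) : Cd ≃* Cd := MulAut.conj y

theorem ddc_central (y : Cd) : y * ddc = ddc * y := Subtype.ext (mem_Cd.mp y.2)

theorem cnj_ddc (y : Cd) : cnj y ddc = ddc := by
  rw [MulAut.conj_apply, ddc_central, mul_inv_cancel_right]

theorem isConj_cnj {z : presHe.Grp} (y x : Cd) (h : IsConj z (x : presHe.Grp)) :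
    IsConj z (cnj y x : presHe.Grp) :=
  h.trans (isConj_iff.mpr ⟨(y : presHe.Grp), rfl⟩)

theorem IsTup.conj {x0 x1 x2 x5 x6 : Cd} (h : IsTup x0 x1 x2 x5 x6) (y : Cd) :
    IsTup (cnj y x0) (cnj y x1) (cnj y x2) (cnj y x5) (cnj y x6) := by
  constructor <;>
    (try simp only [← map_mul, ne_eq, EmbeddingLike.map_eq_one_iff, EmbeddingLike.apply_eq_iff_eq]) <;>
    first
      | exact h.s0 | exact h.n0 | exact h.s1 | exact h.n1 | exact h.s2 | exact h.n2
      | exact h.s5 | exact h.n5 | exact h.s6 | exact h.n6 | exact isConj_cnj y _ h.k0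
      | exact isConj_cnj y _ h.k1 | exact isConj_cnj y _ h.k2 | exact isConj_cnj y _ h.k5
      | exact isConj_cnj y _ h.k6 | exact h.r01 | exact h.nc01 | exact h.r02 | exact h.ne12
      | exact h.r12 | exact h.r05 | exact h.r06 | exact h.r15 | exact h.r16 | exact h.r25
      | exact h.r26 | exact (congrArg (cnj y) h.r012).trans (cnj_ddc y)
      | exact (congrArg (cnj y) h.r56).trans (cnj_ddc y)

theorem code_eq_of {x y : Cd} {a b : ℕ} (ha : a < 2 ^ 25) (hb : b < 2 ^ 25) (hx : M x = mat a) (hy : M y = mat b)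
    (e : x = y) : a = b :=
  mat_injective ha hb (hx.symm.trans ((congrArg M e).trans hy))

theorem coC_of {x y : Cd} {a b : ℕ} (hx : M x = mat a) (hy : M y = mat b) (e : x * y = y * x) :
    coC a b = true := by
  rw [coC, code_eq_of (mulC_lt a b) (mulC_lt b a) (M_mul hx hy) (M_mul hy hx) e]
  exact Nat.beq_refl _

theorem coC_false {x y : Cd} {a b : ℕ} (hx : M x = mat a) (hy : M y = mat b) (e : x * y ≠ y * x) :
    coC a b = false :=
  Bool.eq_false_iff.mpr fun h => e (M_unique (M_mul hx hy) (M_mul hy hx) h)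

theorem M_cnj {x y : Cd} {c a g : ℕ} (hx : M x = mat c) (ha : a < 2 ^ 25) (hy : M y = mat g)
    (hg : conjCode g a c = true) : M (cnj y⁻¹ x) = mat a := by
  have e : mat g * M (cnj y⁻¹ x) = mat g * mat a := by
    rw [← hy, ← map_mul, MulAut.conj_apply, inv_inv,
      show y * (y⁻¹ * x * y) = x * y by group, map_mul, hx, hy, mat_mulC, mat_mulC,
      Nat.eq_of_beq_eq_true hg]
  have hu : M y⁻¹ * mat g = 1 := by rw [← hy, ← map_mul, inv_mul_cancel, map_one]
  have := congrArg (fun A => M y⁻¹ * A) e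
  simpa only [← mul_assoc, hu, one_mul] using this

theorem clsCode_lt {k : ℕ} (hk : k < 2) : clsCode k < 2 ^ 25 := by interval_cases k <;> decide

/-- A configuration with first member a standard class representative, after a conjugation. -/
theorem first {x0 x1 x2 x5 x6 : Cd} (h : IsTup x0 x1 x2 x5 x6) :
    ∃ n < 2, ∃ y : Cd, M (cnj y x0) = mat (clsCode n) := by
  obtain ⟨n, hn, r, y, hr, hxy, -⟩ := code_of_a h.s0 h.n0 h.k0
  refine ⟨n, hn, y⁻¹, ?_⟩
  rw [hxy, MulAut.conj_apply, inv_inv, show y⁻¹ * (y * r * y⁻¹) * y = r by group, hr]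

theorem second {x0 x1 x2 x5 x6 : Cd} (h : IsTup x0 x1 x2 x5 x6) {n : ℕ} (hn : n < 2)
    (h0 : M x0 = mat (clsCode n)) :
    ∃ k < 3, ∃ a b c, tripleReps.getD k (0, 0, 0, 0) = (n, a, b, c) ∧ ∃ y : Cd,
      M (cnj y x0) = mat a ∧ M (cnj y x1) = mat b ∧ M (cnj y x2) = mat c := by
  obtain ⟨-, -, -, -, -, -, c1, hc1, hl1, hM1⟩ := code_of_a h.s1 h.n1 h.k1
  obtain ⟨-, -, -, -, -, -, c2, hc2, hl2, hM2⟩ := code_of_a h.s2 h.n2 h.k2
  have key : ∀ L, tripCover n L = true → tripCert n c1 c2 = true := by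
    intro L hL
    simp only [tripCover, force_eq, Bool.and_eq_true, beq_iff_eq, List.all_eq_true] at hL
    have hmem : c2 ∈ L := by
      rw [← hL.1]
      exact List.mem_filter.mpr ⟨hc2, coC_of h0 hM2 h.r02⟩
    have h1 := hL.2 c1 hc1
    rw [coC_false h0 hM1 h.nc01] at h1
    have e4 : sq (sq (mulC (clsCode n) c1)) = oneCode := by
      simp only [sq, force_eq]
      exact code_eq_of (mulC_lt _ _) oneCode_lt
        (M_mul (M_mul (M_mul h0 hM1) (M_mul h0 hM1)) (M_mul (M_mul h0 hM1) (M_mul h0 hM1))) M_one h.r01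
    rw [e4, Nat.beq_refl] at h1
    simp only [Bool.not_true, Bool.or_self, Bool.false_or, List.all_eq_true] at h1
    have h2 := h1 c2 hmem
    have ec : tripCond (clsCode n) c1 c2 = true := by
      simp only [tripCond, Bool.and_eq_true, cube, force_eq]
      refine ⟨⟨?_, ?_⟩, ?_⟩
      · rw [Bool.not_eq_true', Bool.eq_false_iff]
        exact fun e => h.ne12 (M_unique hM2 hM1 e)
      · rw [code_eq_of (mulC_lt _ _) oneCode_lt (M_mul (M_mul (M_mul hM1 hM2) (M_mul hM1 hM2)) (M_mul hM1 hM2))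
          M_one h.r12]
        exact Nat.beq_refl _
      · rw [code_eq_of (mulC_lt _ _) sCode_lt (M_mul (M_mul (M_mul (M_mul h0 hM1) hM2) (M_mul (M_mul h0 hM1) hM2))
          (M_mul (M_mul h0 hM1) hM2)) M_ddc h.r012]
        exact Nat.beq_refl _
    simpa [ec] using h2
  have hc : tripCert n c1 c2 = true := by
    interval_cases n
    · exact key _ trip_ok0
    · exact key _ trip_ok1
  simp only [tripCert, List.any_eq_true] at hc
  obtain ⟨⟨n', b', c', k, i, j⟩, -, hp⟩ := hc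
  simp only [Bool.and_eq_true, blt_iff] at hp
  obtain ⟨⟨⟨-, hb⟩, hc'⟩, ⟨⟨hk, hi⟩, hj⟩, hrep⟩ := hp
  obtain ⟨nk, a, b, c, e⟩ : ∃ nk a b c, tripleReps.getD k (0, 0, 0, 0) = (nk, a, b, c) := ⟨_, _, _, _, rfl⟩
  rw [e] at hrep
  simp only [Bool.and_eq_true] at hrep
  obtain ⟨⟨⟨⟨hnk, ha⟩, hga⟩, hgb⟩, hgc⟩ := hrep
  obtain ⟨y, hy⟩ := exists_code hi hj
  have hreps : ∀ p ∈ tripleReps, p.2.1 < 2 ^ 25 ∧ p.2.2.1 < 2 ^ 25 ∧ p.2.2.2 < 2 ^ 25 := by decide
  have hsm := hreps _ (getD_mem (show k < tripleReps.length from hk) (0, 0, 0, 0))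
  rw [e] at hsm
  refine ⟨k, hk, a, b, c, by rw [e, Nat.eq_of_beq_eq_true hnk], y⁻¹, ?_, ?_, ?_⟩
  · rw [Nat.eq_of_beq_eq_true ha]
    exact M_cnj h0 (clsCode_lt hn) hy hga
  · exact M_cnj hM1 hsm.2.1 hy hgb
  · exact M_cnj hM2 hsm.2.2 hy hgc

theorem third {x0 x1 x2 x5 x6 : Cd} (h : IsTup x0 x1 x2 x5 x6) {k : ℕ} (hk : k < 3) {n a b c : ℕ}
    (hrep : tripleReps.getD k (0, 0, 0, 0) = (n, a, b, c))
    (h0 : M x0 = mat a) (h1 : M x1 = mat b) (h2 : M x2 = mat c) :
    ∃ y : Cd, cnj y x0 = T 0 ∧ cnj y x1 = T 1 ∧ cnj y x2 = T 2 ∧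
      (cnj y x5 = T 3 ∧ cnj y x6 = T 4 ∨ cnj y x5 = T 5 ∧ cnj y x6 = T 6) := by
  obtain ⟨c5, hc5, hl5, hM5⟩ := code_of_d h.s5 h.n5 h.k5
  obtain ⟨c6, hc6, hl6, hM6⟩ := code_of_d h.s6 h.n6 h.k6
  have hf := List.all_eq_true.mp fg_ok k (List.mem_range.mpr hk)
  rw [fgOK, hrep, beq_iff_eq] at hf
  have hp := List.all_eq_true.mp pair_ok k (List.mem_range.mpr hk)
  simp only [pairCover, List.all_eq_true] at hp
  have hin : ∀ x : Cd, ∀ d, M x = mat d → d ∈ tbList → x0 * x = x * x0 → x1 * x = x * x1 → x2 * x = x * x2 →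
      d ∈ fgLists.getD k [] := by
    intro x d hd hmem e0 e1 e2
    rw [← hf]
    refine List.mem_filter.mpr ⟨hmem, ?_⟩
    simp [coC_of h0 hd e0, coC_of h1 hd e1, coC_of h2 hd e2]
  have hq := hp c5 (hin x5 c5 hM5 hc5 h.r05 h.r15 h.r25) c6 (hin x6 c6 hM6 hc6 h.r06 h.r16 h.r26)
  have e56 : sq (mulC c5 c6) = sCode := by
    simp only [sq, force_eq]
    exact code_eq_of (mulC_lt _ _) sCode_lt (M_mul (M_mul hM5 hM6) (M_mul hM5 hM6)) M_ddc h.r56
  rw [e56, Nat.beq_refl] at hq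
  simp only [Bool.not_true, Bool.false_or, Bool.and_eq_true] at hq
  obtain ⟨hk0, hcert⟩ := hq
  obtain rfl := Nat.eq_of_beq_eq_true hk0
  rw [rep0] at hrep
  simp only [Prod.mk.injEq] at hrep
  obtain ⟨-, rfl, rfl, rfl⟩ := hrep
  simp only [pairCert, List.any_eq_true] at hcert
  obtain ⟨⟨f', g', r, i, j⟩, -, hp'⟩ := hcert
  simp only [Bool.and_eq_true, blt_iff, force_eq] at hp'
  obtain ⟨-, ⟨⟨hi, hj⟩, hr⟩, ⟨⟨⟨g0, g1⟩, g2⟩, g5⟩, g6⟩ := hp'
  obtain ⟨y, hy⟩ := exists_code hi hj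
  refine ⟨y⁻¹, M_injective ((M_cnj h0 (tC_lt 0) hy g0).trans (M_T 0).symm),
    M_injective ((M_cnj h1 (tC_lt 1) hy g1).trans (M_T 1).symm),
    M_injective ((M_cnj h2 (tC_lt 2) hy g2).trans (M_T 2).symm), ?_⟩
  interval_cases r
  · exact Or.inl ⟨M_injective ((M_cnj hM5 (tC_lt 3) hy g5).trans (M_T 3).symm),
      M_injective ((M_cnj hM6 (tC_lt 4) hy g6).trans (M_T 4).symm)⟩
  · exact Or.inr ⟨M_injective ((M_cnj hM5 (tC_lt 5) hy g5).trans (M_T 5).symm),
      M_injective ((M_cnj hM6 (tC_lt 6) hy g6).trans (M_T 6).symm)⟩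

theorem normal_form {x0 x1 x2 x5 x6 : Cd} (h : IsTup x0 x1 x2 x5 x6) :
    ∃ y : Cd, cnj y x0 = T 0 ∧ cnj y x1 = T 1 ∧ cnj y x2 = T 2 ∧
      (cnj y x5 = T 3 ∧ cnj y x6 = T 4 ∨ cnj y x5 = T 5 ∧ cnj y x6 = T 6) := by
  obtain ⟨n, hn, u, hu⟩ := first h
  have h' := h.conj u
  obtain ⟨k, hk, a, b, c, hrep, v, ha, hb, hc⟩ := second h' hn hu
  obtain ⟨w, hw⟩ := third (h'.conj v) hk hrep ha hb hc
  refine ⟨w * v * u, ?_⟩
  have e : ∀ x, cnj (w * v * u) x = cnj w (cnj v (cnj u x)) := fun x => by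
    simp only [cnj, map_mul, MulAut.mul_apply]
  simpa only [e] using hw

end CfsgLib.HeCent
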