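/-
The outer automorphism group of the Held group has order two.
-/
import Cfsg.Agent.Lib.HeCent.Tuples
import Cfsg.Agent.Lib.HeCent.PairCent
import Cfsg.Prelude.Def_KGroupFacts

set_option autoImplicit false
set_option maxRecDepth 100000

namespace CfsgLib.HeCent

open CfsgLib.CosetEnum

theorem el_single (x : ℕ) : el [x] = presHe.σ x := by simp [el]

/-- The words of the members of a configuration in the original frame. -/
def origW (i : ℕ) : List ℕ := [[0], [1], [2], [5], [6], fW, gW].getD i []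

theorem frame_ok : ((List.range 7).all fun i => sameEl (tW i) ([3, 4].reverse ++ (origW i ++ [3, 4]))) = true := by
  decide +kernel

theorem T_val (i : Fin 7) : (T i : presHe.Grp) = el [3, 4] * el (origW i) * (el [3, 4])⁻¹ :=
  (el_eq (List.all_eq_true.mp frame_ok i.1 (List.mem_range.mpr i.2))).trans (conj_word _ _)

theorem dd_frame : dd = el [3, 4] * el [4] * (el [3, 4])⁻¹ := by
  rw [← conj_word, ← el_three]
  exact el_eq (by decide +kernel)

theorem M_ne_one {x : Cd} {c : ℕ} (hx : M x = mat c) (hc : c < 2 ^ 25) (h : Nat.beq c oneCode = false) : x ≠ 1 :=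
  fun e => absurd (code_eq_of hc oneCode_lt hx M_one e) (Nat.ne_of_beq_eq_false h)

theorem M_eq_one {x : Cd} {c : ℕ} (hx : M x = mat c) (h : Nat.beq c oneCode = true) : x = 1 :=
  M_unique hx M_one h

theorem T_invol (i : Fin 7) : T i * T i = 1 ∧ T i ≠ 1 := by
  refine ⟨M_eq_one (M_mul (M_T i) (M_T i)) ?_, M_ne_one (M_T i) (tC_lt i) ?_⟩ <;> (revert i; decide +kernel)

theorem T_conj (i : Fin 7) :
    (memb (tC i) tbList = false → IsConj (el [0]) (T i : presHe.Grp)) ∧
      (memb (tC i) taList = false → IsConj dd (T i : presHe.Grp)) := by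
  obtain ⟨k, _, r, y, _, hr', hxy, c, hlt, hM, h⟩ := inv_class (T_invol i).1 (T_invol i).2
  obtain rfl : c = tC i := code_eq_of hlt (tC_lt i) hM (M_T i) rfl
  have hrx : IsConj (r : presHe.Grp) (T i : presHe.Grp) := isConj_iff.mpr ⟨(y : presHe.Grp), by rw [hxy]; rfl⟩
  rcases h with ⟨h0, -, hmem⟩ | ⟨h3, hmem⟩
  · exact ⟨fun _ => h0 ▸ hr'.trans hrx, fun hf => absurd (memb_iff.mpr hmem) (by rw [hf]; decide)⟩
  · exact ⟨fun hf => absurd (memb_iff.mpr hmem) (by rw [hf]; decide), fun _ => el_three ▸ h3 ▸ hr'.trans hrx⟩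

theorem isTup_T : IsTup (T 0) (T 1) (T 2) (T 3) (T 4) := by
  constructor
  all_goals first
    | exact (T_invol _).1
    | exact (T_invol _).2
    | exact (T_conj _).1 (by decide +kernel)
    | exact (T_conj _).2 (by decide +kernel)
    | exact ddc_eq.symm
    | skip
  · exact M_eq_one (M_mul (M_mul (M_mul (M_T 0) (M_T 1)) (M_mul (M_T 0) (M_T 1)))
      (M_mul (M_mul (M_T 0) (M_T 1)) (M_mul (M_T 0) (M_T 1)))) (by decide +kernel)
  · exact fun e => absurd (code_eq_of (mulC_lt _ _) (mulC_lt _ _) (M_mul (M_T 0) (M_T 1)) (M_mul (M_T 1) (M_T 0)) e)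
      (Nat.ne_of_beq_eq_false (by decide +kernel))
  · exact M_unique (M_mul (M_T 0) (M_T 2)) (M_mul (M_T 2) (M_T 0)) (by decide +kernel)
  · exact fun e => absurd (code_eq_of (tC_lt 2) (tC_lt 1) (M_T 2) (M_T 1) e)
      (Nat.ne_of_beq_eq_false (by decide +kernel))
  · exact M_eq_one (M_mul (M_mul (M_mul (M_T 1) (M_T 2)) (M_mul (M_T 1) (M_T 2))) (M_mul (M_T 1) (M_T 2)))
      (by decide +kernel)
  · exact M_unique (M_mul (M_mul (M_mul (M_mul (M_T 0) (M_T 1)) (M_T 2)) (M_mul (M_mul (M_T 0) (M_T 1)) (M_T 2)))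
      (M_mul (M_mul (M_T 0) (M_T 1)) (M_T 2))) M_ddc (by decide +kernel)
  · exact M_unique (M_mul (M_T 0) (M_T 3)) (M_mul (M_T 3) (M_T 0)) (by decide +kernel)
  · exact M_unique (M_mul (M_T 0) (M_T 4)) (M_mul (M_T 4) (M_T 0)) (by decide +kernel)
  · exact M_unique (M_mul (M_T 1) (M_T 3)) (M_mul (M_T 3) (M_T 1)) (by decide +kernel)
  · exact M_unique (M_mul (M_T 1) (M_T 4)) (M_mul (M_T 4) (M_T 1)) (by decide +kernel)
  · exact M_unique (M_mul (M_T 2) (M_T 3)) (M_mul (M_T 3) (M_T 2)) (by decide +kernel)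
  · exact M_unique (M_mul (M_T 2) (M_T 4)) (M_mul (M_T 4) (M_T 2)) (by decide +kernel)

theorem IsTup.map {x0 x1 x2 x5 x6 : Cd} (h : IsTup x0 x1 x2 x5 x6) (R : Cd →* Cd) (hR : Function.Injective R)
    (hd : R ddc = ddc) (ha : ∀ x : Cd, IsConj (el [0]) (x : presHe.Grp) → IsConj (el [0]) (R x : presHe.Grp))
    (hb : ∀ x : Cd, IsConj dd (x : presHe.Grp) → IsConj dd (R x : presHe.Grp)) :
    IsTup (R x0) (R x1) (R x2) (R x5) (R x6) := by
  constructor <;>
    (try simp only [← map_mul, ne_eq, map_eq_one_iff R hR, hR.eq_iff]) <;>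
    first
      | exact h.s0 | exact h.n0 | exact h.s1 | exact h.n1 | exact h.s2 | exact h.n2
      | exact h.s5 | exact h.n5 | exact h.s6 | exact h.n6 | exact ha _ h.k0
      | exact ha _ h.k1 | exact ha _ h.k2 | exact hb _ h.k5
      | exact hb _ h.k6 | exact h.r01 | exact h.nc01 | exact h.r02 | exact h.ne12
      | exact h.r12 | exact h.r05 | exact h.r06 | exact h.r15 | exact h.r16 | exact h.r25
      | exact h.r26 | exact (congrArg R h.r012).trans hd | exact (congrArg R h.r56).trans hd

theorem aut_dd (α : MulAut presHe.Grp) : ¬ IsConj (el [0]) (α dd) := by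
  intro h
  obtain ⟨c, hc⟩ := isConj_iff.mp h
  set β : MulAut presHe.Grp := MulAut.conj c⁻¹ * α with hβ
  have hb : β dd = el [0] := by
    rw [hβ, MulAut.mul_apply, MulAut.conj_apply, ← hc]
    group
  have e : Cd.map β.toMonoidHom = Subgroup.centralizer ({el [0]} : Set presHe.Grp) := by
    ext z
    rw [Subgroup.mem_map_equiv, mem_Cd, Subgroup.mem_centralizer_singleton_iff, ← hb]
    constructor
    · intro h'
      simpa using congrArg β h'
    · intro h'
      exact β.injective (by simpa using h')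
  have hcard := Subgroup.card_map_of_injective (K := Cd) (f := β.toMonoidHom) β.injective
  rw [e, card_Cd] at hcard
  have h5 := five_dvd
  rw [hcard] at h5
  norm_num at h5

theorem el0_sq : el [0] * el [0] = 1 := by rw [el_single, presHe.σ_sq]

theorem el0_ne : el [0] ≠ 1 := fun h => el_ne (w := [0]) (v := []) (by decide) (by decide) (by decide +kernel) h

theorem dd_ne : dd ≠ 1 := fun h => el_ne (w := [3]) (v := []) (by decide) (by decide) (by decide +kernel) h

theorem aut_conj (α : MulAut presHe.Grp) :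
    (∀ z, IsConj (el [0]) z → IsConj (el [0]) (α z)) ∧ ∀ z, IsConj dd z → IsConj dd (α z) := by
  have sq : ∀ x : presHe.Grp, x * x = 1 → α x * α x = 1 := fun x hx => by rw [← map_mul, hx, map_one]
  have ne : ∀ x : presHe.Grp, x ≠ 1 → α x ≠ 1 := fun x hx e => hx (α.injective (e.trans (map_one α).symm))
  refine ⟨fun z hz => ?_, fun z hz => ?_⟩
  · refine IsConj.trans ?_ (α.toMonoidHom.map_isConj hz)
    rcases classes (sq _ el0_sq) (ne _ el0_ne) with h | h
    · exact h
    · refine absurd ?_ (aut_dd α⁻¹)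
      have h' := (α⁻¹).toMonoidHom.map_isConj h
      simp only [MulEquiv.coe_toMonoidHom] at h'
      rw [show α⁻¹ (α (el [0])) = el [0] from α.symm_apply_apply _] at h'
      exact h'.symm
  · refine IsConj.trans ?_ (α.toMonoidHom.map_isConj hz)
    rcases classes (sq _ dd_sq) (ne _ dd_ne) with h | h
    · exact absurd h (aut_dd α)
    · exact h

theorem mem_Inn (g : presHe.Grp) : MulAut.conj g ∈ Cfsg.Inn presHe.Grp := ⟨g, rfl⟩

/-- An automorphism, after an inner one, has one of two patterns on six generators. -/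
theorem normal_aut (α : MulAut presHe.Grp) :
    ∃ g : presHe.Grp, let β := MulAut.conj g * α
      β (el [0]) = el [0] ∧ β (el [1]) = el [1] ∧ β (el [2]) = el [2] ∧ β (el [4]) = el [4] ∧
        (β (el [5]) = el [5] ∧ β (el [6]) = el [6] ∨ β (el [5]) = el fW ∧ β (el [6]) = el gW) := by
  obtain ⟨c, hc⟩ := isConj_iff.mp ((aut_conj α).2 dd (IsConj.refl _))
  set β1 : MulAut presHe.Grp := MulAut.conj c⁻¹ * α with hβ1
  have h1 : β1 dd = dd := by
    rw [hβ1, MulAut.mul_apply, MulAut.conj_apply, ← hc]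
    group
  have hmem : ∀ x : Cd, β1 x ∈ Cd := fun x => by
    rw [mem_Cd]
    nth_rewrite 1 2 [← h1]
    rw [← map_mul, ← map_mul, mem_Cd.mp x.2]
  let R : Cd →* Cd := (β1.toMonoidHom.comp Cd.subtype).codRestrict Cd hmem
  have hR : Function.Injective R := fun x y e => Subtype.ext (β1.injective (congrArg Subtype.val e))
  have htup := isTup_T.map R hR (Subtype.ext h1) (fun x hx => (aut_conj β1).1 _ hx) (fun x hx => (aut_conj β1).2 _ hx)
  obtain ⟨y, e0, e1, e2, e56⟩ := normal_form htup
  refine ⟨(el [3, 4])⁻¹ * ((y : presHe.Grp) * c⁻¹) * α (el [3, 4]), ?_⟩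
  set β := MulAut.conj ((el [3, 4])⁻¹ * ((y : presHe.Grp) * c⁻¹) * α (el [3, 4])) * α with hβ
  have key : ∀ w, β w = (el [3, 4])⁻¹ * ((y : presHe.Grp) * β1 (el [3, 4] * w * (el [3, 4])⁻¹) * (y : presHe.Grp)⁻¹) *
      el [3, 4] := fun w => by
    rw [hβ, hβ1]
    show (el [3, 4])⁻¹ * ((y : presHe.Grp) * c⁻¹) * α (el [3, 4]) * α w *
        ((el [3, 4])⁻¹ * ((y : presHe.Grp) * c⁻¹) * α (el [3, 4]))⁻¹ =
      (el [3, 4])⁻¹ * ((y : presHe.Grp) * (c⁻¹ * α (el [3, 4] * w * (el [3, 4])⁻¹) * c⁻¹⁻¹) * (y : presHe.Grp)⁻¹) *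
        el [3, 4]
    rw [map_mul α, map_mul α, map_inv α]
    group
  have keyT : ∀ (i j : Fin 7), cnj y (R (T i)) = T j → β (el (origW i)) = el (origW j) := by
    intro i j e
    have e' : (y : presHe.Grp) * β1 (T i : presHe.Grp) * (y : presHe.Grp)⁻¹ = (T j : presHe.Grp) :=
      congrArg Subtype.val e
    rw [key, ← T_val i, e', T_val j]
    group
  refine ⟨keyT 0 0 e0, keyT 1 1 e1, keyT 2 2 e2, ?_, ?_⟩
  · rw [key, ← dd_frame, h1, mem_Cd.mp y.2, mul_inv_cancel_right, dd_frame]
    group
  · rcases e56 with ⟨e5, e6⟩ | ⟨e5, e6⟩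
    · exact Or.inl ⟨keyT 3 3 e5, keyT 4 4 e6⟩
    · exact Or.inr ⟨keyT 3 5 e5, keyT 4 6 e6⟩

/-- The check that a cube is trivial. -/
noncomputable def cubeOK (v : List ℕ) : Bool := sameEl (v ++ (v ++ v)) []

/-- The check of a possible image of `d`. -/
noncomputable def extOK (F G : List ℕ) (i : ℕ) : Bool :=
  force i fun i => !(sameEl (abWord.getD i []) [4]) && cubeOK ([4] ++ abWord.getD i []) &&
    cubeOK (F ++ abWord.getD i []) && cubeOK (G ++ abWord.getD i [])

theorem extA_ok : (List.range 336).filter (extOK [5] [6]) = extA := by decide +kernel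

theorem extB_ok : (List.range 336).filter (extOK fW gW) = extB := by decide +kernel

theorem sameEl_of_eq {w v : List ℕ} (hw : okWord w = true) (hv : okWord v = true) (e : el w = el v) :
    sameEl w v = true := by
  simp only [sameEl, hw, hv, Bool.true_and, List.all_eq_true]
  intro b hb
  rw [← pt_el hw (six_lt b hb), ← pt_el hv (six_lt b hb), e]
  exact Nat.beq_refl _

theorem okWord_append {w v : List ℕ} (hw : okWord w = true) (hv : okWord v = true) : okWord (w ++ v) = true := by
  simp only [okWord, List.all_append, Bool.and_eq_true] at hw hv ⊢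
  exact ⟨hw, hv⟩

theorem cube_of {w : List ℕ} (hw : okWord w = true) (h : el w * el w * el w = 1) : cubeOK w = true :=
  sameEl_of_eq (okWord_append hw (okWord_append hw hw)) rfl (by rw [el_append, el_append, el_nil, h])

theorem image_d {β : MulAut presHe.Grp} {F G : List ℕ} (hF : okWord F = true) (hG : okWord G = true)
    (h0 : β (el [0]) = el [0]) (h1 : β (el [1]) = el [1]) (h4 : β (el [4]) = el [4])
    (h5 : β (el [5]) = el F) (h6 : β (el [6]) = el G) :
    ∃ i ∈ (List.range 336).filter (extOK F G), β (el [3]) = el (abWord.getD i []) := by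
  have comm : ∀ x, el [3] * el [x] = el [x] * el [3] → β (el [x]) = el [x] →
      β (el [3]) * el [x] = el [x] * β (el [3]) := fun x hx hb => by
    nth_rewrite 1 2 [← hb]
    rw [← map_mul, ← map_mul, hx]
  have c0 : el [3] * el [0] = el [0] * el [3] := by rw [← el_append, ← el_append]; exact el_eq (by decide +kernel)
  have c1 : el [3] * el [1] = el [1] * el [3] := by rw [← el_append, ← el_append]; exact el_eq (by decide +kernel)
  obtain ⟨i, hi, e⟩ := Cab_list (mem_Cab.mpr ⟨comm 0 c0 h0, comm 1 c1 h1⟩)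
  refine ⟨i, List.mem_filter.mpr ⟨List.mem_range.mpr hi, ?_⟩, e.symm⟩
  have hw := (abEl_spec hi).1
  have cube : ∀ x H, okWord H = true → cubeOK ([x] ++ [3]) = true → β (el [x]) = el H →
      cubeOK (H ++ abWord.getD i []) = true := by
    intro x H hH hx hb
    have h3 : el ([x] ++ [3]) * el ([x] ++ [3]) * el ([x] ++ [3]) = 1 := by
      rw [← el_append, ← el_append, ← el_nil]
      exact el_eq hx
    refine cube_of (okWord_append hH hw) ?_
    rw [el_append, e, ← hb, ← map_mul, ← el_append, ← map_mul, ← map_mul, h3, map_one]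
  simp only [extOK, force_eq, Bool.and_eq_true]
  refine ⟨⟨⟨?_, cube 4 [4] rfl (by decide +kernel) h4⟩, cube 5 F hF (by decide +kernel) h5⟩,
    cube 6 G hG (by decide +kernel) h6⟩
  rw [Bool.not_eq_true', Bool.eq_false_iff]
  intro hs
  have h34 := el_eq hs
  rw [e, ← h4] at h34
  exact el_ne (w := [3]) (v := [4]) (by decide) (by decide) (by decide +kernel) (β.injective h34)

/-- The images of the generators under the outer automorphism. -/
def outW (x : ℕ) : List ℕ := [[0], [1], [2], dW, [4], fW, gW].getD x []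

theorem prod_outW : ∀ w : List ℕ, (w.map fun x => el (outW x)).prod = el (w.reverse.flatMap outW) := by
  intro w
  induction w with
  | nil => rfl
  | cons x t ih =>
    rw [List.map_cons, List.prod_cons, ih, List.reverse_cons, List.flatMap_append, el_append]
    simp

theorem out_sq (x : ℕ) : el (outW x) * el (outW x) = 1 := by
  by_cases hx : x < 7
  · rw [← el_append, ← el_nil]
    refine el_eq ?_
    revert hx x
    decide +kernel
  · rw [show outW x = [] from List.getD_eq_default _ _ (show 7 ≤ x by omega), el_nil, one_mul]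

theorem out_rels_ok : (presHe.rels.all fun w => sameEl (w.reverse.flatMap outW) []) = true := by decide +kernel

/-- The outer automorphism as an endomorphism. -/
noncomputable def omegaHom : presHe.Grp →* presHe.Grp :=
  PresentedGroup.toGroup (f := (fun x => el (outW x)) ∘ presHe.idx)
    (presHe.lift_rel out_sq fun w hw => by rw [prod_outW, el_eq (List.all_eq_true.mp out_rels_ok w hw), el_nil])

theorem omegaHom_gen {x : ℕ} (hx : x < 7) : omegaHom (el [x]) = el (outW x) := by
  rw [el_single, Pres.σ, if_pos hx]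
  exact (PresentedGroup.toGroup.of _).trans (congrArg (fun x => el (outW x)) (hid x hx))

theorem omegaHom_bijective : Function.Bijective omegaHom := by
  haveI : IsSimpleGroup presHe.Grp := Cfsg.Agent.S1695.result.1
  refine Finite.injective_iff_bijective.mp ((MonoidHom.ker_eq_bot_iff omegaHom).mp ?_)
  refine ((MonoidHom.normal_ker omegaHom).eq_bot_or_eq_top).resolve_right fun h => ?_
  have h0 : el [0] ∈ omegaHom.ker := h ▸ Subgroup.mem_top _
  rw [MonoidHom.mem_ker, omegaHom_gen (by norm_num)] at h0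
  exact el0_ne h0

/-- The outer automorphism. -/
noncomputable def omega : MulAut presHe.Grp := MulEquiv.ofBijective omegaHom omegaHom_bijective

theorem omega_gen {x : ℕ} (hx : x < 7) : omega (el [x]) = el (outW x) := omegaHom_gen hx

theorem aut_ext {α β : MulAut presHe.Grp} (h : ∀ x < 7, α (el [x]) = β (el [x])) : α = β := by
  have e := MonoidHom.eq_of_eqOn_dense presHe.gen_closure (f := α.toMonoidHom) (g := β.toMonoidHom) (by
    rintro _ ⟨x, hx, rfl⟩
    rw [← el_single]
    exact h x hx)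
  exact MulEquiv.ext fun z => DFunLike.congr_fun e z

theorem fix4_ok : ((List.range 7).all fun i => sameEl ([4] ++ origW i ++ [4]) (origW i)) = true := by
  decide +kernel

theorem ext_ok : sameEl ([4] ++ abWord.getD 20 [] ++ [4]) [3] = true ∧ sameEl (abWord.getD 1 []) [3] = true ∧
    sameEl (abWord.getD 27 []) dW = true ∧ sameEl ([4] ++ abWord.getD 119 [] ++ [4]) dW = true := by
  decide +kernel

/-- Every automorphism is inner or the product of an inner and the outer one. -/
theorem aut_cases (α : MulAut presHe.Grp) :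
    ∃ g : presHe.Grp, MulAut.conj g * α = 1 ∨ MulAut.conj g * α = omega := by
  obtain ⟨g, h0, h1, h2, h4, h56⟩ := normal_aut α
  set β := MulAut.conj g * α with hβ
  have c4 : ∀ v, sameEl ([4] ++ v ++ [4]) v = true → MulAut.conj (el [4]) (el v) = el v := fun v hv => by
    rw [MulAut.conj_apply, show (el [4])⁻¹ = el [4] from (el_inv [4]).symm, mul_assoc, ← el_append, ← el_append]
    exact el_eq (by simpa using hv)
  have c4' : ∀ i < 7, MulAut.conj (el [4]) (el (origW i)) = el (origW i) := fun i hi =>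
    c4 _ (List.all_eq_true.mp fix4_ok i (List.mem_range.mpr hi))
  have c44 : MulAut.conj (el [4]) (el [4]) = el [4] := c4 _ (by decide +kernel)
  have cd : ∀ v w, sameEl ([4] ++ v ++ [4]) w = true → MulAut.conj (el [4]) (el v) = el w := fun v w hv => by
    rw [MulAut.conj_apply, show (el [4])⁻¹ = el [4] from (el_inv [4]).symm, mul_assoc, ← el_append, ← el_append]
    exact el_eq (by simpa using hv)
  have finish : ∀ (γ : MulAut presHe.Grp) (F G D : List ℕ), γ (el [0]) = el [0] → γ (el [1]) = el [1] →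
      γ (el [2]) = el [2] → γ (el [3]) = el D → γ (el [4]) = el [4] → γ (el [5]) = el F → γ (el [6]) = el G →
      (F = [5] ∧ G = [6] ∧ D = [3] → γ = 1) ∧ (F = fW ∧ G = gW ∧ D = dW → γ = omega) := by
    intro γ F G D g0 g1 g2 g3 g4 g5 g6
    refine ⟨fun ⟨eF, eG, eD⟩ => aut_ext fun x hx => ?_, fun ⟨eF, eG, eD⟩ => aut_ext fun x hx => ?_⟩
    all_goals subst eF eG eD
    · interval_cases x <;> first | exact g0 | exact g1 | exact g2 | exact g3 | exact g4 | exact g5 | exact g6
    · rw [omega_gen hx]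
      interval_cases x <;> first | exact g0 | exact g1 | exact g2 | exact g3 | exact g4 | exact g5 | exact g6
  have twist : ∀ z, (MulAut.conj (el [4] * g) * α) z = MulAut.conj (el [4]) (β z) := fun z => by
    rw [hβ, map_mul, mul_assoc]
    rfl
  rcases h56 with ⟨h5, h6⟩ | ⟨h5, h6⟩
  · obtain ⟨i, hi, h3⟩ := image_d (β := β) rfl rfl h0 h1 h4 h5 h6
    rw [extA_ok] at hi
    simp only [extA, List.mem_cons, List.not_mem_nil, or_false] at hi
    rcases hi with rfl | rfl
    · exact ⟨g, Or.inl ((finish β [5] [6] [3] h0 h1 h2 (h3.trans (el_eq ext_ok.2.1)) h4 h5 h6).1 ⟨rfl, rfl, rfl⟩)⟩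
    · refine ⟨el [4] * g, Or.inl ((finish _ [5] [6] [3] ?_ ?_ ?_ ?_ ?_ ?_ ?_).1 ⟨rfl, rfl, rfl⟩)⟩
      · rw [twist, h0]; exact c4' 0 (by norm_num)
      · rw [twist, h1]; exact c4' 1 (by norm_num)
      · rw [twist, h2]; exact c4' 2 (by norm_num)
      · rw [twist, h3]; exact cd _ _ ext_ok.1
      · rw [twist, h4]; exact c44
      · rw [twist, h5]; exact c4' 3 (by norm_num)
      · rw [twist, h6]; exact c4' 4 (by norm_num)
  · obtain ⟨i, hi, h3⟩ := image_d (β := β) rfl rfl h0 h1 h4 h5 h6
    rw [extB_ok] at hi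
    simp only [extB, List.mem_cons, List.not_mem_nil, or_false] at hi
    rcases hi with rfl | rfl
    · exact ⟨g, Or.inr ((finish β fW gW dW h0 h1 h2 (h3.trans (el_eq ext_ok.2.2.1)) h4 h5 h6).2 ⟨rfl, rfl, rfl⟩)⟩
    · refine ⟨el [4] * g, Or.inr ((finish _ fW gW dW ?_ ?_ ?_ ?_ ?_ ?_ ?_).2 ⟨rfl, rfl, rfl⟩)⟩
      · rw [twist, h0]; exact c4' 0 (by norm_num)
      · rw [twist, h1]; exact c4' 1 (by norm_num)
      · rw [twist, h2]; exact c4' 2 (by norm_num)
      · rw [twist, h3]; exact cd _ _ ext_ok.2.2.2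
      · rw [twist, h4]; exact c44
      · rw [twist, h5]; exact c4' 5 (by norm_num)
      · rw [twist, h6]; exact c4' 6 (by norm_num)

/-- The check that an element of the centraliser of `a` and `b` does not realise the outer automorphism. -/
noncomputable def innOK (i : ℕ) : Bool :=
  force i fun i => !(sameEl ([2] ++ abWord.getD i []) (abWord.getD i [] ++ [2]) &&
    sameEl ([4] ++ abWord.getD i []) (abWord.getD i [] ++ [4]) &&
    sameEl ([5] ++ abWord.getD i []) (abWord.getD i [] ++ fW))

theorem inn_ok : ((List.range 336).all innOK) = true := by decide +kernel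

theorem omega_not_inner : omega ∉ Cfsg.Inn presHe.Grp := by
  rintro ⟨g, hg⟩
  have h : ∀ x < 7, g * el [x] = el (outW x) * g := fun x hx => by
    rw [← omega_gen hx, ← hg, MulAut.conj_apply, inv_mul_cancel_right]
  obtain ⟨i, hi, e⟩ := Cab_list (mem_Cab.mpr ⟨h 0 (by norm_num), h 1 (by norm_num)⟩)
  have hw := (abEl_spec hi).1
  have hk := List.all_eq_true.mp inn_ok i (List.mem_range.mpr hi)
  have key : ∀ x, x < 7 → okWord (outW x) = true → sameEl ([x] ++ abWord.getD i []) (abWord.getD i [] ++ outW x) = true := by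
    intro x hx ho
    refine sameEl_of_eq (okWord_append (by simp [okWord, hx]) hw) (okWord_append hw ho) ?_
    rw [el_append, el_append, e]
    exact h x hx
  have h2 : sameEl ([2] ++ abWord.getD i []) (abWord.getD i [] ++ [2]) = true := key 2 (by norm_num) rfl
  have h4 : sameEl ([4] ++ abWord.getD i []) (abWord.getD i [] ++ [4]) = true := key 4 (by norm_num) rfl
  have h5 : sameEl ([5] ++ abWord.getD i []) (abWord.getD i [] ++ fW) = true := key 5 (by norm_num) rfl
  rw [innOK, force_eq, h2, h4, h5] at hk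
  exact absurd hk (by decide)

theorem card_out : Nat.card (Cfsg.Out presHe.Grp) = 2 := by
  rw [Nat.card_eq_two_iff]
  refine ⟨1, QuotientGroup.mk omega, fun h => omega_not_inner ((QuotientGroup.eq_one_iff _).mp h.symm), ?_⟩
  refine Set.eq_univ_of_forall fun q => ?_
  obtain ⟨α, rfl⟩ := QuotientGroup.mk_surjective q
  obtain ⟨g, hg | hg⟩ := aut_cases α
  · refine Or.inl ((QuotientGroup.eq_one_iff _).mpr ?_)
    rw [eq_inv_of_mul_eq_one_right hg]
    exact inv_mem (mem_Inn g)
  · refine Or.inr ?_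
    show QuotientGroup.mk α = QuotientGroup.mk omega
    rw [← hg, QuotientGroup.mk_mul, (QuotientGroup.eq_one_iff _).mpr (mem_Inn g), one_mul]

end CfsgLib.HeCent
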